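import Cfsg.Agent.H53.HC.Asm
import Cfsg.Agent.Characters.Linear
import Cfsg.Agent.H665.RIM.Defs
import Cfsg.Agent.S2043
import Cfsg.Agent.H990.TC.Univ
import Cfsg.Agent.H843.IMC.Co1B
import Cfsg.Agent.ConwayFacts.AutCo1
import Cfsg.Agent.Blocks.CliffordCentral
import Cfsg.Agent.H620.RIM.Nb
import Cfsg.Agent.H973.QA.Rank_m3
import Cfsg.Agent.H95.StemCover
import Mathlib
import Cfsg.Agent.Characters.Core
import Cfsg.Agent.FastGrp
import Cfsg.Agent.Prune
set_option linter.all false

section
prune_inst 0x7fdcebf9aba8abdedfff7e3ffed8dff9f5e82fffa6dff9cbffe4eb9febdf6b23cdc52b8d8fe010fe9f76629410f87b43fb7eceffea6bdc7ffffd5ff01ffbffcfedf7b50951948c340fbc2ffe03f07f8e6f3ffffff7fffffffffffffffffffffffffffbfeffff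

-- part: H908/RIM/Eng
section
prune_inst 0x2114021444542120000180010700020805c0004020063000091420040004c8323a40127017c20160819122c7020080048131000490238000020004e004000000000a82084b108010004001e00b807100000000080000000000000000000000000000000000
set_option linter.all false
open scoped Cfsg.Agent.FastGrp

/-!
# Irreducible characters over a central character from a root group datum (helper908, S4816)

`Y` has a root group datum, `Z ≤ T` is central, `l : Z →* ℂˣ`.

* `exists_prod_char'` : product of irreducible characters of commuting subgroups which agree on the intersection;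
* `exists_irr_over` : `θ` a cuspidal irreducible character of `M_J`, not fixed by the elements permuting the simple roots of
  `J`, `θ z = θ 1 * l z` for `z ∈ Z ∩ M_J`: an irreducible character over `l` of degree divisible by `|Y : P_J| θ(1)`;
* `exists_irr_one_over`, `exists_irr_free_over` : the forms for one component of type `A_2` and for `J` which is not permuted.
-/

set_option autoImplicit false
set_option linter.unusedSectionVars false

open scoped ComplexConjugate
open Cfsg

namespace Cfsg.Agent.H908.RIM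

open Cfsg.Agent.OddOrderCharacters.Clifford Cfsg.Agent.Characters Cfsg.Agent.H53.HC
  Cfsg.Agent.OddOrderCharacters.IndRes

section grp

variable {G : Type*} [Group G]

/-- **Product of irreducible characters of commuting subgroups** which agree on the intersection. -/
theorem exists_prod_char' [Finite G] {H K : Subgroup G} (hc : ∀ a ∈ H, ∀ b ∈ K, a * b = b * a)
    {α : H → ℂ} {β : K → ℂ} (hα : IsIrrCharacter H α) (hβ : IsIrrCharacter K β)
    (hz : ∀ z : G, ∀ h1 : z ∈ H, ∀ h2 : z ∈ K, α ⟨z, h1⟩ * β ⟨z⁻¹, inv_mem h2⟩ = α 1 * β 1) :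
    ∃ ψ : ↥(H ⊔ K) → ℂ, IsIrrCharacter _ ψ ∧
      ∀ (a : G) (ha : a ∈ H) (b : G) (hb : b ∈ K),
        ψ ⟨a * b, mul_mem (le_sup_left (b := K) ha) (le_sup_right (a := H) hb)⟩ = α ⟨a, ha⟩ * β ⟨b, hb⟩ := by
  classical
  have : Fintype G := Fintype.ofFinite G
  let f : H × K →* ↥(H ⊔ K) :=
    { toFun := fun x => ⟨x.1 * x.2, mul_mem (le_sup_left (b := K) x.1.2) (le_sup_right (a := H) x.2.2)⟩
      map_one' := by
        apply Subtype.ext
        simp
      map_mul' := by
        rintro ⟨a, b⟩ ⟨c, d⟩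
        apply Subtype.ext
        change (a * c : G) * (b * d) = (a * b) * (c * d)
        have := hc c c.2 b b.2
        calc (a * c : G) * (b * d) = a * (c * b) * d := by group
          _ = a * (b * c) * d := by rw [this]
          _ = (a * b) * (c * d) := by group }
  have hf : Function.Surjective f := by
    rintro ⟨x, hx⟩
    have hle : H ≤ Subgroup.normalizer (K : Set G) := by
      intro a ha
      rw [Subgroup.mem_normalizer_iff]
      intro b
      constructor
      · intro hb
        rw [hc a ha b hb, mul_inv_cancel_right]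
        exact hb
      · intro hb
        have h1 := hc a⁻¹ (inv_mem ha) _ hb
        have h2 : b = a * b * a⁻¹ := by
          have h3 : a⁻¹ * (a * b * a⁻¹) = (a * b * a⁻¹) * a⁻¹ := h1
          have h4 : b * a⁻¹ = (a * b * a⁻¹) * a⁻¹ := by rw [← h3]; group
          exact mul_right_cancel h4
        rw [h2]
        exact hb
    have h1 : x ∈ ((H ⊔ K : Subgroup G) : Set G) := hx
    rw [Subgroup.coe_mul_of_left_le_normalizer_right _ _ hle] at h1
    obtain ⟨a, ha, b, hb, rfl⟩ := h1
    exact ⟨(⟨a, ha⟩, ⟨b, hb⟩), rfl⟩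
  have hirr : IsIrrCharacter (H × K) (fun x => α x.1 * β x.2) := Cfsg.Agent.S0188.isIrr_outer hα hβ
  obtain ⟨ψ, hψ, hψf⟩ := Cfsg.Agent.OddOrderCharacters.PF9.Reducible.exists_of_surjective f hf hirr (by
    rintro ⟨a, b⟩ hab
    have h1 : (a : G) * b = 1 := congrArg Subtype.val hab
    have h2 : (b : G) = (a : G)⁻¹ := (inv_eq_of_mul_eq_one_right h1).symm
    have haK : (a : G) ∈ K := by
      rw [← inv_mem_iff, ← h2]
      exact b.2
    have e1 : b = ⟨(a : G)⁻¹, inv_mem haK⟩ := Subtype.ext h2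
    change α a * β b = α 1 * β 1
    rw [e1]
    exact hz a a.2 haK)
  exact ⟨ψ, hψ, fun a ha b hb => hψf (⟨a, ha⟩, ⟨b, hb⟩)⟩

/-- a linear character is irreducible -/
theorem isIrr_lin {Z : Type*} [Group Z] [Finite Z] (l : Z →* ℂˣ) : IsIrrCharacter Z (fun z => ((l z : ℂˣ) : ℂ)) := by
  exact Cfsg.Agent.Characters.Linear.isIrrCharacter_hom l

end grp

open CoxeterSystem Cfsg.Agent.ChevalleyStructure.CoxeterGeom Cfsg.Agent.Tits.Roots Cfsg.Agent.Tits.Core
  Cfsg.Agent.Tits.Exchange Cfsg.Agent.Nodes.Reps Cfsg.Agent.Nodes.BNOf Cfsg.Agent.Nodes.StabComb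
  Cfsg.Agent.Nodes.Bruhat Cfsg.Agent.Nodes.OppDec Cfsg.Agent.Nodes.LeviDec

variable {I W Y : Type*} [Fintype I] [DecidableEq I] [Group W] [Group Y] {M : CoxeterMatrix I}
  {cs : CoxeterSystem M W} {A : I → I → ℤ} {h : IsCartan M A} {p : ℕ} {T : Subgroup Y} {n : I → Y}
  {X : (I → ℤ) → Subgroup Y}

variable (R : RGD cs h p T n X)

include R

/-- **Irreducible characters over a central character** of a group with a root group datum, from the cuspidal characters
of `M_J`. -/
theorem exists_irr_over [Finite W] [Fintype Y] (hG : GG cs h T X = ⊤) (J : Set I)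
    {θ : ↥(MJ cs h X J) → ℂ} (hθ : IsIrrCharacter _ θ)
    (hc : ∀ i ∈ J, ∀ [Fintype (rad cs h X J i)], ∑ u : rad cs h X J i, θ ⟨u, rad_le_MJ J i u.2⟩ = 0)
    (hs : ∀ w g (hg : Rp cs R.nsys w g), w ∉ WJ cs J → ∀ hw : Perm cs h J w,
      ∃ (m : Y) (hm : m ∈ MJ cs h X J), θ ⟨g⁻¹ * m * g, conj_mem_MJ R hg hw hm⟩ ≠ θ ⟨m, hm⟩)
    {Z : Subgroup Y} (hZ : Z ≤ Subgroup.center Y) (hZT : Z ≤ T) (l : Z →* ℂˣ)
    (hd : ∀ z (hz : z ∈ Z) (hm : z ∈ MJ cs h X J), θ ⟨z, hm⟩ = θ 1 * l ⟨z, hz⟩) :
    ∃ χ : Y → ℂ, IsIrrCharacter Y χ ∧ (∀ z : Z, χ z = χ 1 * l z) ∧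
      ∃ k : ℕ, 0 < k ∧ χ 1 = (PJ cs h T X J).index * (k * θ 1) := by
  classical
  have hcomm : ∀ a ∈ MJ cs h X J, ∀ b ∈ Z, a * b = b * a := fun a _ b hb => Subgroup.mem_center_iff.1 (hZ hb) a
  obtain ⟨ψ₀, hψ₀, hψ₀v⟩ := exists_prod_char' hcomm hθ (isIrr_lin l) (by
    intro z h1 h2
    rw [hd z h2 h1]
    have e : (⟨z⁻¹, inv_mem h2⟩ : Z) = (⟨z, h2⟩ : Z)⁻¹ := rfl
    rw [e, map_inv, map_one, mul_assoc]
    simp)
  have hML : MJ cs h X J ≤ LJ cs h T X J := MJ_le_LJ J
  have hZL : Z ≤ LJ cs h T X J := hZT.trans T_le_LJ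
  have hNL : MJ cs h X J ⊔ Z ≤ LJ cs h T X J := sup_le hML hZL
  have hLN : LJ cs h T X J ≤ Subgroup.normalizer ((MJ cs h X J ⊔ Z : Subgroup Y) : Set Y) := by
    intro g hg
    have h0 : ∀ g ∈ LJ cs h T X J, ∀ x ∈ MJ cs h X J ⊔ Z, g * x * g⁻¹ ∈ MJ cs h X J ⊔ Z := by
      intro g hg x hx
      have hgn := LJ_le_normalizer_MJ R J hg
      have h2 : MJ cs h X J ⊔ Z ≤ (MJ cs h X J ⊔ Z).comap (MulAut.conj g).toMonoidHom := by
        refine sup_le ?_ ?_
        · intro y hy
          exact Subgroup.mem_sup_left ((Subgroup.mem_normalizer_iff.1 hgn y).1 hy)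
        · intro y hy
          have h3 : g * y * g⁻¹ = y := by
            rw [Subgroup.mem_center_iff.1 (hZ hy) g, mul_inv_cancel_right]
          rw [Subgroup.mem_comap]
          change g * y * g⁻¹ ∈ _
          rw [h3]
          exact Subgroup.mem_sup_right hy
      exact h2 hx
    rw [Subgroup.mem_normalizer_iff]
    intro x
    refine ⟨h0 g hg x, fun hx => ?_⟩
    have h1 := h0 g⁻¹ (inv_mem hg) _ hx
    have h2 : g⁻¹ * (g * x * g⁻¹) * g⁻¹⁻¹ = x := by group
    rwa [h2] at h1
  obtain ⟨ψ, hψ, ⟨k, hk, hk1⟩, c, s, hres, hsφ⟩ := exists_over hNL hLN hψ₀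
  obtain ⟨ψ', hψ', hψL, hψV⟩ := exists_infl R J hψ
  -- the restriction to `M_J`
  obtain ⟨ρ, hρ⟩ : ∃ ρ : (↥(MJ cs h X J ⊔ Z) → ℂ) → ↥(MJ cs h X J) → ℂ,
      ρ = fun φ x => φ ⟨x, Subgroup.mem_sup_left x.2⟩ := ⟨_, rfl⟩
  have hres' : ∀ (m : Y) (hm : m ∈ MJ cs h X J), ψ' ⟨m, LJ_le_PJ (MJ_le_LJ J hm)⟩ = c * ∑ φ ∈ s, ρ φ ⟨m, hm⟩ := by
    intro m hm
    rw [hψL, hρ]
    exact hres ⟨m, Subgroup.mem_sup_left hm⟩
  have hψ₀1 : ψ₀ 1 = θ 1 := by
    have h1 := hψ₀v 1 (one_mem _) 1 (one_mem _)
    have e : (⟨(1 : Y) * 1, mul_mem (le_sup_left (b := Z) (one_mem (MJ cs h X J)))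
        (le_sup_right (a := MJ cs h X J) (one_mem Z))⟩ : ↥(MJ cs h X J ⊔ Z)) = 1 := Subtype.ext (mul_one _)
    rw [e] at h1
    rw [h1]
    have e2 : l ⟨1, one_mem Z⟩ = 1 := map_one l
    rw [e2, Units.val_one, mul_one]
    rfl
  have hψ₀M : ∀ (a : Y) (ha : a ∈ MJ cs h X J), ψ₀ ⟨a, Subgroup.mem_sup_left ha⟩ = θ ⟨a, ha⟩ := by
    intro a ha
    have h1 := hψ₀v a ha 1 (one_mem _)
    have e2 : l ⟨1, one_mem Z⟩ = 1 := map_one l
    rw [e2, Units.val_one] at h1
    rw [← mul_one (θ ⟨a, ha⟩), ← h1]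
    congr 1
    exact Subtype.ext (mul_one _).symm
  have hψ₀Z : ∀ (z : Y) (hz : z ∈ Z), ψ₀ ⟨z, Subgroup.mem_sup_right hz⟩ = θ 1 * l ⟨z, hz⟩ := by
    intro z hz
    have h1 := hψ₀v 1 (one_mem _) z hz
    rw [show (⟨1, one_mem _⟩ : ↥(MJ cs h X J)) = 1 from rfl] at h1
    rw [← h1]
    congr 1
    exact Subtype.ext (one_mul _).symm
  -- the conjugates are conjugates under the torus
  have hsT : ∀ φ ∈ s, ∃ t, ∃ ht : t ∈ T, ρ φ = θ ∘ conjME (MJ cs h X J) (T_le_normalizer_MJ R J ht) := by
    intro φ hφ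
    obtain ⟨g, hg, hgφ⟩ := hsφ φ hφ
    obtain ⟨m, hm, t, ht, rfl⟩ := (mem_LJ_iff_mul' R J).1 hg
    refine ⟨t, ht, ?_⟩
    funext x
    obtain ⟨hx', e⟩ := hgφ x (Subgroup.mem_sup_left x.2)
    rw [hρ]
    change φ ⟨x, Subgroup.mem_sup_left x.2⟩ = _
    have hx'' : m * t * (x : Y) * (m * t)⁻¹ ∈ MJ cs h X J := by
      have hgn := LJ_le_normalizer_MJ R J hg
      exact (Subgroup.mem_normalizer_iff.1 hgn _).1 x.2
    rw [e, hψ₀M _ hx'', Function.comp_apply]
    have h1 := Core.isIrr_isClassFunction hθ (conjME (MJ cs h X J) (T_le_normalizer_MJ R J ht) x) ⟨m, hm⟩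
    rw [← h1]
    congr 1
    apply Subtype.ext
    simp only [conjME_coe, Subgroup.coe_mul, InvMemClass.coe_inv]
    group
  -- the central character
  have hψZ : ∀ z : Z, ψ ⟨z, hZL z.2⟩ = ψ 1 * l z := by
    intro z
    have h1 : ∀ φ ∈ s, φ ⟨z, Subgroup.mem_sup_right z.2⟩ = φ 1 * l z := by
      intro φ hφ
      obtain ⟨g, hg, hgφ⟩ := hsφ φ hφ
      obtain ⟨hx', e⟩ := hgφ z (Subgroup.mem_sup_right z.2)
      obtain ⟨hy', e'⟩ := hgφ 1 (one_mem _)
      have e1 : (⟨g * z * g⁻¹, hx'⟩ : ↥(MJ cs h X J ⊔ Z)) = ⟨z, Subgroup.mem_sup_right z.2⟩ := by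
        apply Subtype.ext
        change g * z * g⁻¹ = z
        rw [Subgroup.mem_center_iff.1 (hZ z.2) g, mul_inv_cancel_right]
      have e2 : (⟨g * 1 * g⁻¹, hy'⟩ : ↥(MJ cs h X J ⊔ Z)) = 1 := by
        apply Subtype.ext
        change g * 1 * g⁻¹ = 1
        group
      rw [e, e1, hψ₀Z z z.2]
      change _ = φ ⟨1, one_mem _⟩ * _
      rw [e', e2, hψ₀1]
    have h2 : ψ ⟨z, hZL z.2⟩ = c * ∑ φ ∈ s, φ ⟨z, Subgroup.mem_sup_right z.2⟩ := hres ⟨z, Subgroup.mem_sup_right z.2⟩
    have h3 : ψ 1 = c * ∑ φ ∈ s, φ 1 := hres 1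
    rw [h2, h3, Finset.sum_congr rfl h1, ← Finset.sum_mul, mul_assoc]
  have hZP : ∀ z : Z, (z : Y) ∈ PJ cs h T X J := fun z => LJ_le_PJ (hZL z.2)
  have hψ'Z : ∀ z : Z, ψ' ⟨z, hZP z⟩ = ψ' 1 * l z := by
    intro z
    rw [hψL _ (hZL z.2), hψZ]
    congr 1
    exact (hψL 1 (one_mem _)).symm
  have hindZ : ∀ z : Z, indFun (PJ cs h T X J) ψ' z = indFun (PJ cs h T X J) ψ' 1 * l z := by
    intro z
    have h1 : ∀ g : Y, extendByZero (PJ cs h T X J) ψ' (g⁻¹ * z * g) =
        extendByZero (PJ cs h T X J) ψ' (g⁻¹ * 1 * g) * l z := by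
      intro g
      have e1 : g⁻¹ * (z : Y) * g = z := by
        rw [Subgroup.mem_center_iff.1 (hZ z.2) g⁻¹, inv_mul_cancel_right]
      have e2 : g⁻¹ * (1 : Y) * g = 1 := by group
      rw [e1, e2]
      unfold extendByZero
      have h2 : Function.extend Subtype.val ψ' (fun _ => (0 : ℂ)) ((⟨z, hZP z⟩ : PJ cs h T X J) : Y) =
          ψ' ⟨z, hZP z⟩ := Subtype.val_injective.extend_apply _ _ _
      have h3 : Function.extend Subtype.val ψ' (fun _ => (0 : ℂ)) ((1 : PJ cs h T X J) : Y) =
          ψ' 1 := Subtype.val_injective.extend_apply _ _ _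
      refine h2.trans ?_
      rw [hψ'Z]
      exact congrArg (· * ((l z : ℂˣ) : ℂ)) h3.symm
    change (Nat.card (PJ cs h T X J) : ℂ)⁻¹ * ∑ g : Y, extendByZero (PJ cs h T X J) ψ' (g⁻¹ * z * g) =
      (Nat.card (PJ cs h T X J) : ℂ)⁻¹ * (∑ g : Y, extendByZero (PJ cs h T X J) ψ' (g⁻¹ * 1 * g)) * l z
    rw [Finset.sum_congr rfl fun g _ => h1 g, ← Finset.sum_mul, mul_assoc]
  refine ⟨indFun (PJ cs h T X J) ψ', ?_, hindZ, k, hk, ?_⟩
  · refine isIrr_indFun_rgd R hG J hψ' hψV ?_ ?_
    · intro i hi hf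
      have h1 : ∀ u : rad cs h X J i, ψ' ⟨u, rad_le_PJ J i u.2⟩ = c * ∑ φ ∈ s, ρ φ ⟨u, rad_le_MJ J i u.2⟩ :=
        fun u => hres' u (rad_le_MJ J i u.2)
      rw [Finset.sum_congr rfl fun u _ => h1 u, ← Finset.mul_sum, Finset.sum_comm]
      rw [Finset.sum_eq_zero, mul_zero]
      intro φ hφ
      obtain ⟨t, ht, e⟩ := hsT φ hφ
      rw [← hc i hi]
      simp only [e]
      exact Fintype.sum_equiv (conjME (rad cs h X J i) (T_le_normalizer_rad R J i ht)).toEquiv _ _ fun u => rfl
    · intro w g hg hw hp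
      have hgn := inv_mem (rp_mem_normalizer_MJ R hg hp)
      refine ⟨MJ cs h X J, le_trans (MJ_le_LJ J) LJ_le_PJ,
        fun l hl => LJ_le_PJ (MJ_le_LJ J (conj_mem_MJ R hg hp hl)), ?_⟩
      intro hf
      have h1 : ∀ l : MJ cs h X J, ψ' ⟨l, LJ_le_PJ (MJ_le_LJ J l.2)⟩ *
          conj (ψ' ⟨g⁻¹ * l * g, LJ_le_PJ (MJ_le_LJ J (conj_mem_MJ R hg hp l.2))⟩) =
          ∑ φ ∈ s, ∑ φ' ∈ s, (c * conj c) * (ρ φ l * conj ((ρ φ' ∘ conjME (MJ cs h X J) hgn) l)) := by
        intro l
        have e2 : (⟨g⁻¹ * l * g, conj_mem_MJ R hg hp l.2⟩ : MJ cs h X J) = conjME (MJ cs h X J) hgn l := by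
          apply Subtype.ext
          rw [conjME_coe, inv_inv]
        rw [hres' l l.2, hres' _ (conj_mem_MJ R hg hp l.2), e2, map_mul, map_sum]
        simp only [← Finset.mul_sum, Function.comp_apply]
        rw [← Finset.sum_mul]
        ring
      rw [Finset.sum_congr rfl fun l _ => h1 l, Finset.sum_comm]
      refine Finset.sum_eq_zero fun φ hφ => ?_
      rw [Finset.sum_comm]
      refine Finset.sum_eq_zero fun φ' hφ' => ?_
      rw [← Finset.mul_sum]
      obtain ⟨t, ht, e⟩ := hsT φ hφ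
      obtain ⟨t', ht', e'⟩ := hsT φ' hφ'
      rw [e, e']
      have hne : θ ∘ conjME (MJ cs h X J) (T_le_normalizer_MJ R J ht) ≠
          (θ ∘ conjME (MJ cs h X J) (T_le_normalizer_MJ R J ht')) ∘ conjME (MJ cs h X J) hgn := by
        intro he
        have hg' : Rp cs R.nsys w (t * g * t'⁻¹) := by
          have h2 := ((rp_of_mem (cs := cs) (hN := R.nsys) ht).mul hg).mul
            (rp_of_mem (cs := cs) (hN := R.nsys) (inv_mem ht'))
          rwa [one_mul, mul_one] at h2
        obtain ⟨m, hm, hne⟩ := hs w _ hg' hw hp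
        apply hne
        have h3 := congrFun he (conjME (MJ cs h X J) (inv_mem (T_le_normalizer_MJ R J ht)) ⟨m, hm⟩)
        simp only [Function.comp_apply] at h3
        refine Eq.trans ?_ (h3.symm.trans ?_)
        · congr 1
          apply Subtype.ext
          simp only [conjME_coe]
          group
        · congr 1
          apply Subtype.ext
          simp only [conjME_coe]
          group
      have hi1 : IsIrrCharacter _ (θ ∘ conjME (MJ cs h X J) (T_le_normalizer_MJ R J ht)) :=
        Core.isIrr_comp (conjME _ (T_le_normalizer_MJ R J ht)).toMonoidHom (MulEquiv.surjective _) hθ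
      have hi2 : IsIrrCharacter _ (θ ∘ conjME (MJ cs h X J) (T_le_normalizer_MJ R J ht')) :=
        Core.isIrr_comp (conjME _ (T_le_normalizer_MJ R J ht')).toMonoidHom (MulEquiv.surjective _) hθ
      have hi3 : IsIrrCharacter _ ((θ ∘ conjME (MJ cs h X J) (T_le_normalizer_MJ R J ht')) ∘
          conjME (MJ cs h X J) hgn) :=
        Core.isIrr_comp (conjME _ hgn).toMonoidHom (MulEquiv.surjective _) hi2
      have h4 := Core.classInner_irr_ne hi1 hi3 hne
      rw [Core.classInner_def, mul_eq_zero] at h4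
      rcases h4 with h4 | h4
      · exact absurd (inv_eq_zero.1 h4) Core.card_ne_zero_complex
      · rw [mul_eq_zero]
        exact Or.inr h4
  · rw [indFun_one]
    congr 1
    rw [← hψ₀1, ← hk1]
    exact hψL 1 (one_mem _)

/-- **One component of type `A_2`.** -/
theorem exists_irr_one_over [Finite W] [Fintype Y] (hG : GG cs h T X = ⊤) {J K K' : Set I} {j : I}
    (hJ : ∀ i, i ∈ J ↔ i ≠ j) (hJK : J = K ∪ K') (ho : Orth A K K') {k₀ k₁ : I} (hK : K = {k₀, k₁})
    (hk : IsoPair A J k₀ k₁) (hk1 : A k₁ j = 0) (h3 : ¬ (3 : ℤ) ∣ A k₀ j)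
    (hun : ∀ a b, IsoPair A J a b → (a = k₀ ∧ b = k₁) ∨ (a = k₁ ∧ b = k₀))
    {θ : ↥(MJ cs h X K) → ℂ} (hθ : Cusp cs h X K θ) (hns : NonSwap cs h X K k₀ k₁ θ)
    {θ' : ↥(MJ cs h X K') → ℂ} (hθ' : Cusp cs h X K' θ')
    {Z : Subgroup Y} (hZ : Z ≤ Subgroup.center Y) (hZT : Z ≤ T) (hZM : ∀ z ∈ Z, z ∈ MJ cs h X J → z = 1)
    (l : Z →* ℂˣ) :
    ∃ χ : Y → ℂ, IsIrrCharacter Y χ ∧ (∀ z : Z, χ z = χ 1 * l z) ∧
      ∃ k : ℕ, 0 < k ∧ χ 1 = (PJ cs h T X J).index * (k * (θ 1 * θ' 1)) := by
  subst hJK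
  obtain ⟨ψ, hψ, hval⟩ := hθ.exists_prod R ho hθ'
  have hval1 : ψ 1 = θ 1 * θ' 1 := by
    obtain ⟨hab, e⟩ := hval 1 (one_mem _) 1 (one_mem _)
    simp only [mul_one] at e
    exact e
  rw [← hval1]
  refine exists_irr_over R hG (K ∪ K') hψ.irr hψ.van ?_ hZ hZT l ?_
  · intro w g hg hw hp
    obtain ⟨h0, h1⟩ := swap_of_iso hJ hk hk1 h3 hun hp hw
    exact not_stable_swap R rfl ho hK hns hθ'.irr hval hg hp h0 h1
  · intro z hz hm
    obtain rfl := hZM z hz hm
    have e2 : l ⟨1, hz⟩ = 1 := map_one l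
    rw [e2, Units.val_one, mul_one]
    rfl

end Cfsg.Agent.H908.RIM
end

-- part: H274/RIM/Co1E
section
set_option linter.all false
open scoped Cfsg.Agent.FastGrp

/-!
# S4816, row `Co1`: faithful characters of `Co0` (helper274, task 6295 of helper764)

`nball_of_co0` : an irreducible character of `Co0` of degree divisible by `p` with `χ(-1) = -χ(1)` gives `NBall p Co1`.
-/

set_option autoImplicit false

namespace Cfsg.Agent.H274.RIM

open Cfsg Cfsg.Agent.H51.Mult Cfsg.Agent.H665.RIM
open Cfsg.Agent.SporadicA.GolayBase Cfsg.Agent.SporadicA.Co0Mono Cfsg.Agent.SporadicA.Co1Simple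
open Cfsg.Agent.CoOneType.CoOneE (pr pr_surjective mem_center_iff allOne_ne)

universe u

theorem pce_pr : PCE pr where
  surj := pr_surjective
  cen := by
    show (QuotientGroup.mk' (Subgroup.center Co0)).ker ≤ _
    rw [QuotientGroup.ker_mk']
  perf := Cfsg.Agent.ConwayFacts.AutCo1.commutator_Co0

theorem card_ker_pr : Nat.card pr.ker = 2 := by
  show Nat.card (QuotientGroup.mk' (Subgroup.center Co0)).ker = 2
  rw [QuotientGroup.ker_mk']
  exact Cfsg.Agent.S0398.result

theorem card_mult : Nat.card (Multiplicative (ZMod 2)) = 2 :=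
  (Nat.card_congr Multiplicative.toAdd).trans (Nat.card_zmod 2)

/-- **From `Co0` to `NBall p Co1`.** -/
theorem nball_of_co0 {p : ℕ} {χ : Co0 → ℂ} (hχ : IsIrrCharacter Co0 χ) (hneg : χ (signCo0 allOne) = - χ 1)
    (hp : p ∣ charDegree χ) {S : Type u} [Group S] [Finite S] (hS : Spor.IsoCo1 S) : NBall p S := by
  obtain ⟨e⟩ := hS
  intro m hm _ E _ _ π hπ hker hcomm hcard l hl
  let π' : E →* Spor.Co1 := e.toMonoidHom.comp π
  have hk : π'.ker = π.ker := by
    ext x
    rw [MonoidHom.mem_ker, MonoidHom.mem_ker]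
    exact e.map_eq_one_iff
  have hπ' : PCE π' := ⟨e.surjective.comp hπ, by rw [hk]; exact hker, hcomm⟩
  have hM : Cfsg.HasCyclicSchurMultiplier Spor.Co1 2 := Cfsg.Agent.S2043.result
  have h2 : m = 2 := by
    have h1 := H990.TC.card_ker_dvd hM hπ'
    rw [hk, hcard, card_mult] at h1
    have h3 := Nat.le_of_dvd (by norm_num) h1
    omega
  subst h2
  obtain ⟨θ, hθ⟩ := H990.TC.exists_surj_of_card hM pce_pr (by rw [card_ker_pr, card_mult]) hπ'
  have hE : Nat.card E = Nat.card Co0 := by
    rw [← Subgroup.card_mul_index π'.ker, ← Subgroup.card_mul_index pr.ker, hk, hcard, card_ker_pr, ← hk,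
      Subgroup.index_ker, Subgroup.index_ker, MonoidHom.range_eq_top.2 hπ'.surj, MonoidHom.range_eq_top.2 pr_surjective]
  have hbij : Function.Bijective θ := by
    have := Fintype.ofFinite E
    have := Fintype.ofFinite Co0
    rw [Fintype.bijective_iff_surjective_and_card]
    exact ⟨hθ, by rw [← Nat.card_eq_fintype_card, ← Nat.card_eq_fintype_card, hE]⟩
  let f : Co0 ≃* E := MulEquiv.ofBijective θ hbij
  refine ⟨fun g => χ (f.symm g), Cfsg.Agent.Blocks.CliffordCentral.isIrrCharacter_comp hχ f.symm.toMonoidHom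
    f.symm.surjective, ?_, ?_⟩
  · intro z
    have hz : f.symm z ∈ Subgroup.center Co0 := by
      rw [Subgroup.mem_center_iff]
      intro g
      have h3 := Subgroup.mem_center_iff.1 (hker z.2) (f g)
      apply f.injective
      rw [map_mul, map_mul, MulEquiv.apply_symm_apply]
      exact h3
    show χ (f.symm z) = χ (f.symm 1) * l z
    rw [map_one]
    rcases (mem_center_iff _).1 hz with h3 | h3
    · have h4 : z = 1 := by
        apply Subtype.ext
        have h5 := congrArg f h3
        rwa [MulEquiv.apply_symm_apply, map_one] at h5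
      rw [h3, h4, map_one, Units.val_one, mul_one]
    · have h4 : z ≠ 1 := by
        rintro rfl
        rw [Subgroup.coe_one, map_one] at h3
        exact allOne_ne h3.symm
      have h5 : l z * l z = 1 := by
        have h6 : z * z = 1 := by
          apply Subtype.ext
          apply f.symm.injective
          rw [Subgroup.coe_mul, map_mul, h3, Subgroup.coe_one, map_one, ← signCo0_add,
            Cfsg.Agent.CoOneType.CoOneE.allOne_add_self, signCo0_zero]
        rw [← map_mul, h6, map_one]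
      have h7 : ((l z : ℂˣ) : ℂ) = -1 := by
        have h8 : ((l z : ℂˣ) : ℂ) * ((l z : ℂˣ) : ℂ) = 1 := by
          rw [← Units.val_mul, h5, Units.val_one]
        rcases mul_self_eq_one_iff.1 h8 with h9 | h9
        · exfalso
          apply h4
          apply hl
          rw [map_one]
          exact Units.ext h9
        · exact h9
      rw [h3, hneg, h7, mul_neg, mul_one]
  · show p ∣ ⌊(χ (f.symm 1)).re⌋₊
    rw [map_one]
    exact hp

end Cfsg.Agent.H274.RIM
end

-- part: H849/RIM/RegCount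
section
prune_inst 0x2014040001142120000180010500000004400040000000000b00200400800422204032001b8101408188000c000000000000000000000000020004400000101208080400033000104340019803003000000000080000000000000000000000000000000000
set_option linter.all false
open scoped Cfsg.Agent.FastGrp

/-!
# `p`-regular classes and characters of full defect over a central character, `p ∥ |G|` (helper849, for S4816)

`P` Sylow of order `p`, `C(P) = P × K`, `Z ≤ Z(G)` a `p'`-group, `c : Z →* ℂˣ`, `w = |N(P) : C(P)|`.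

* `card_reg_le` : if every character over `c` is nonzero somewhere on the `p`-singular elements (e.g. all degrees over `c` are
  prime to `p`), then `w * #{good p-regular classes of G ⧸ Z} ≤ ∑_{θ ∈ Irr(K | c)} e_θ ^ 2`;
* `good_of_cent` : `x ∈ G` is good if `|C_{G/Z}(x)| / o(x)` is prime to `gcd(o(x), |Z|)` (orders in `G ⧸ Z`);
* `nb_of_count`  : the criterion for `H665.RIM.NB`.
-/

set_option autoImplicit false
set_option linter.unusedSectionVars false

namespace Cfsg.Agent.H849.RIM

open Cfsg Subgroup Finset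
open Cfsg.Agent.Characters.Core
open Cfsg.Agent.SmallSimple.ThetaSetup Cfsg.Agent.SmallSimple.ThetaOrtho Cfsg.Agent.SmallSimple.ThetaCount
open Cfsg.Agent.SmallSimple.TheoremC Cfsg.Agent.SmallSimple.TheoremCCor
open Cfsg.Agent.SmallSimple.SingularCount
open Cfsg.Agent.H622.Over
open scoped ComplexConjugate

universe u

section reg

variable {G : Type u} [Group G] [Finite G] {p : ℕ} [Fact p.Prime] {P : Sylow p G} {K : Subgroup G}

/-- A character of `G` above a character of `K` over `c` is over `c`. -/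
theorem lies_of_over {Z : Subgroup G} (hZ : Z ≤ center G) (hZK : Z ≤ K) {c : Z →* ℂˣ} {χ : IrrCharacter G}
    {θ : K → ℂ} (hθ : IsIrrCharacter K θ) (hl : LiesK Z c K θ) (ho : χ ∈ Over P θ) : Lies Z c (χ : G → ℂ) := by
  obtain ⟨d, hd⟩ := exists_hom hZ χ.2
  have h1 := liesK_of_over hZ hZK hd hθ ho
  have h2 : d = c := by
    ext z
    have h3 := h1 1 ⟨z, hZK z.2⟩ z (one_mul _).symm
    have h4 := hl 1 ⟨z, hZK z.2⟩ z (one_mul _).symm
    rw [h3] at h4
    exact mul_left_cancel₀ (isIrr_apply_one_ne_zero hθ) h4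
  rw [← h2]
  exact hd

/-- **The number of good `p`-regular classes over `c`**, if there is no character of defect zero over `c`. -/
theorem card_reg_le (hK : IsComp p (P : Subgroup G) K) (hP : Nat.card P = p) {Z : Subgroup G} [Z.Normal]
    (hZ : Z ≤ center G) (hZK : Z ≤ K) {c : Z →* ℂˣ} {w : ℕ}
    (hw : (centralizer ((P : Subgroup G) : Set G)).relIndex (normalizer ((P : Subgroup G) : Set G)) = w)
    (A : Finset (IrrCharacter K)) (hA : ∀ θ : IrrCharacter K, LiesK Z c K (θ : K → ℂ) ↔ θ ∈ A)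
    (hno : ∀ χ : IrrCharacter G, Lies Z c (χ : G → ℂ) → χ ∈ nonzeroOn p G)
    {ι : Type*} [Fintype ι] (r : ι → G) (hr : ∀ i, Good Z c (r i))
    (hri : ∀ i j, ConjClasses.mk (r i : G ⧸ Z) = ConjClasses.mk (r j : G ⧸ Z) → i = j)
    (hrp : ∀ (i : ι) (g : G), ConjClasses.mk (r i : G ⧸ Z) = ConjClasses.mk (g : G ⧸ Z) → ¬ p ∣ orderOf g) :
    w * Fintype.card ι ≤ ∑ θ ∈ A, Nat.card (stabAct hK (θ : K → ℂ)) ^ 2 := by
  classical
  have := Fintype.ofFinite G
  have := finite_irr (G := G)
  have := Fintype.ofFinite (IrrCharacter G)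
  have hpp : p.Prime := Fact.out
  -- theorem C for the representatives of the orbits
  let rep : IrrCharacter K → IrrCharacter K := fun θ => (Quotient.mk (setoidK hK) θ).out
  have hrep : ∀ θ : IrrCharacter K, ∃ n ∈ normalizer ((P : Subgroup G) : Set G),
      tw (rep θ : K → ℂ) n = (θ : K → ℂ) := by
    intro θ
    exact Quotient.exact (Quotient.out_eq (Quotient.mk (setoidK hK) θ))
  have hC : ∀ θ : IrrCharacter K, ∃ (NE X : Finset (IrrCharacter G)),
      (∀ χ : IrrCharacter G, χ ∈ Over P (rep θ : K → ℂ) ↔ χ ∈ NE ∨ χ ∈ X) ∧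
      NE.card = Nat.card (stabAct hK (rep θ : K → ℂ)) ∧
      (∀ Θ ∈ X, ∃ (ε : IrrCharacter G → ℤ) (d : ℤ), (d = 1 ∨ d = -1) ∧ ∀ g : G, ¬ p ∣ orderOf g →
        ∑ χ ∈ NE, (ε χ : ℂ) * (χ : G → ℂ) g = d * (Θ : G → ℂ) g) := by
    intro θ
    set e := Nat.card (stabAct hK (rep θ : K → ℂ)) with he
    have hed : e ∣ p - 1 := by
      have h1 : Nat.card (MulAut P) = p - 1 := by
        have : IsCyclic (P : Subgroup G) := isCyclic_of_prime_card hP
        rw [IsCyclic.card_mulAut, hP, Nat.totient_prime hpp]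
      rw [← h1]
      exact card_subgroup_dvd_card _
    obtain ⟨t, ht⟩ := hed
    obtain ⟨NE, X, ε, d, S, hOver, -, hNEc, -, -, hd, -, -, -, -, hreg⟩ := theoremC hK hP (rep θ).2 he.symm ht.symm
    exact ⟨NE, X, hOver, hNEc, fun Θ hΘ => ⟨ε, d, hd, hreg Θ hΘ⟩⟩
  -- the same sets for conjugate characters
  let Q := Quotient (setoidK hK)
  choose NE₀ X₀ hO₀ hN₀ hX₀ using hC
  let NE : IrrCharacter K → Finset (IrrCharacter G) := fun θ => NE₀ (rep θ)
  let X : IrrCharacter K → Finset (IrrCharacter G) := fun θ => X₀ (rep θ)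
  have hrr : ∀ θ, rep (rep θ) = rep θ := by
    intro θ
    simp only [rep, Quotient.out_eq]
  have hst : ∀ θ θ' : IrrCharacter K, (∃ n ∈ normalizer ((P : Subgroup G) : Set G), tw (θ : K → ℂ) n = (θ' : K → ℂ)) →
      rep θ = rep θ' := by
    intro θ θ' h
    have h1 : (Quotient.mk (setoidK hK) θ) = Quotient.mk (setoidK hK) θ' := Quotient.sound h
    simp only [rep, h1]
  have horbeq : ∀ θ θ' : IrrCharacter K, θ' ∈ orb P K (θ : K → ℂ) → orb P K (θ' : K → ℂ) = orb P K (θ : K → ℂ) := by
    intro θ θ' h'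
    obtain ⟨n, hn, h⟩ := mem_orb.1 h'
    ext ξ
    rw [mem_orb, mem_orb]
    constructor
    · rintro ⟨m, hm, h3⟩
      exact ⟨n * m, mul_mem hn hm, by rw [tw_mul hK _ hn hm, h, h3]⟩
    · rintro ⟨m, hm, h3⟩
      refine ⟨n⁻¹ * m, mul_mem (inv_mem hn) hm, ?_⟩
      rw [← h, ← tw_mul hK _ hn (mul_mem (inv_mem hn) hm), mul_inv_cancel_left, h3]
  have hest : ∀ θ θ' : IrrCharacter K, θ' ∈ orb P K (θ : K → ℂ) →
      Nat.card (stabAct hK (θ' : K → ℂ)) = Nat.card (stabAct hK (θ : K → ℂ)) := by
    intro θ θ' h'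
    have h3 := card_stabAct_mul_card_orb hK hP θ.2
    have h4 := card_stabAct_mul_card_orb hK hP θ'.2
    rw [horbeq θ θ' h', ← h3] at h4
    have h5 : 0 < (orb P K (θ : K → ℂ)).card := Finset.card_pos.2 ⟨θ, mem_orb.2 ⟨1, one_mem _, tw_one _⟩⟩
    exact Nat.eq_of_mul_eq_mul_right h5 h4
  have hOv : ∀ (θ : IrrCharacter K) (χ : IrrCharacter G), χ ∈ Over P (θ : K → ℂ) ↔ χ ∈ NE θ ∨ χ ∈ X θ := by
    intro θ χ
    obtain ⟨n, hn, h⟩ := hrep θ
    rw [← h, Over_tw hK hn]
    have h1 := hO₀ (rep θ) χ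
    rw [hrr] at h1
    exact h1
  have hNEc : ∀ θ : IrrCharacter K, (NE θ).card = Nat.card (stabAct hK (θ : K → ℂ)) := by
    intro θ
    have h1 := hN₀ (rep θ)
    rw [hrr] at h1
    have h2 : θ ∈ orb P K (rep θ : K → ℂ) := mem_orb.2 (hrep θ)
    rw [hest _ _ h2]
    exact h1
  set T : Finset (IrrCharacter G) := A.biUnion NE with hT
  -- the weight of `T`
  have hweight : w * T.card ≤ ∑ θ ∈ A, Nat.card (stabAct hK (θ : K → ℂ)) ^ 2 := by
    calc w * T.card = ∑ _χ ∈ T, w := by rw [Finset.sum_const, smul_eq_mul, mul_comm]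
      _ ≤ ∑ χ ∈ T, ∑ θ ∈ A, (if χ ∈ NE θ then Nat.card (stabAct hK (θ : K → ℂ)) else 0) := by
          refine Finset.sum_le_sum fun χ hχ => ?_
          obtain ⟨θ, hθA, hθ⟩ := mem_biUnion.1 hχ
          have hov : χ ∈ Over P (θ : K → ℂ) := (hOv θ χ).2 (Or.inl hθ)
          have hl : Lies Z c (χ : G → ℂ) := lies_of_over hZ hZK θ.2 ((hA θ).2 hθA) hov
          have horb : ∀ θ' ∈ orb P K (θ : K → ℂ), θ' ∈ A ∧ χ ∈ NE θ' := by
            intro θ' hθ'
            obtain ⟨n, hn, h⟩ := mem_orb.1 hθ'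
            have h1 : χ ∈ Over P (θ' : K → ℂ) := by rw [← h, Over_tw hK hn]; exact hov
            refine ⟨(hA θ').1 (liesK_of_over hZ hZK hl θ'.2 h1), ?_⟩
            have h2 : rep θ = rep θ' := hst θ θ' ⟨n, hn, h⟩
            show χ ∈ NE₀ (rep θ')
            rw [← h2]
            exact hθ
          calc w = ∑ θ' ∈ orb P K (θ : K → ℂ), Nat.card (stabAct hK (θ : K → ℂ)) := by
                rw [Finset.sum_const, smul_eq_mul, ← hw, ← card_stabAct_mul_card_orb hK hP θ.2, mul_comm]
            _ = ∑ θ' ∈ orb P K (θ : K → ℂ),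
                  (if χ ∈ NE θ' then Nat.card (stabAct hK (θ' : K → ℂ)) else 0) := by
                refine Finset.sum_congr rfl fun θ' hθ' => ?_
                rw [if_pos (horb θ' hθ').2, hest θ θ' hθ']
            _ ≤ _ := Finset.sum_le_sum_of_subset fun θ' hθ' => (horb θ' hθ').1
      _ = ∑ θ ∈ A, ∑ χ ∈ T, (if χ ∈ NE θ then Nat.card (stabAct hK (θ : K → ℂ)) else 0) := Finset.sum_comm
      _ ≤ _ := by
          refine Finset.sum_le_sum fun θ _ => ?_
          rw [← Finset.sum_filter, Finset.sum_const, smul_eq_mul, pow_two]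
          refine Nat.mul_le_mul_right _ ?_
          rw [← hNEc θ]
          exact Finset.card_le_card fun χ hχ => (mem_filter.1 hχ).2
  -- the linear map
  refine le_trans (Nat.mul_le_mul_left w ?_) hweight
  let f : (ι → ℂ) → G → ℂ := fun v => ∑ i, v i • bump Z c (r i)
  have hfs : ∀ v, f v ∈ space Z c := fun v => Submodule.sum_mem _ fun i _ => Submodule.smul_mem _ _ (bump_mem hZ c (r i))
  have hf0 : ∀ (v : ι → ℂ) (g : G), p ∣ orderOf g → f v g = 0 := by
    intro v g hg
    simp only [f, Finset.sum_apply, Pi.smul_apply, smul_eq_mul]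
    refine Finset.sum_eq_zero fun i _ => ?_
    rw [bump_eq_zero c (fun h => hrp i g h hg), mul_zero]
  have hfr : ∀ (v : ι → ℂ) (i : ι), f v (r i) = v i * bump Z c (r i) (r i) := by
    intro v i
    simp only [f, Finset.sum_apply, Pi.smul_apply, smul_eq_mul]
    refine Finset.sum_eq_single i (fun j _ hj => ?_) (fun h => absurd (mem_univ i) h)
    rw [bump_eq_zero c (fun h => hj (hri j i h)), mul_zero]
  let L : (ι → ℂ) →ₗ[ℂ] ({χ : IrrCharacter G // χ ∈ T} → ℂ) :=
    { toFun := fun v χ => ∑ g : G, f v g * conj ((χ.1 : G → ℂ) g)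
      map_add' := by
        intro v v'
        funext χ
        simp only [f, Pi.add_apply, add_smul, Finset.sum_add_distrib, add_mul]
      map_smul' := by
        intro a v
        funext χ
        simp only [f, Pi.smul_apply, smul_eq_mul, RingHom.id_apply, mul_smul, ← Finset.smul_sum, Finset.mul_sum,
          mul_assoc] }
  have hcoef : ∀ v, L v = 0 → ∀ χ : IrrCharacter G, classInner (f v) (χ : G → ℂ) = 0 := by
    intro v hv χ
    have hT0 : ∀ ψ ∈ T, ∑ g : G, f v g * conj ((ψ : G → ℂ) g) = 0 := fun ψ hψ => congrFun hv ⟨ψ, hψ⟩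
    by_cases hl : Lies Z c (χ : G → ℂ)
    · rw [classInner_def]
      obtain ⟨θ, hθ⟩ := exists_mem_Over hK hP (hno χ hl)
      have hθA : θ ∈ A := (hA θ).1 (liesK_of_over hZ hZK hl θ.2 hθ)
      rcases (hOv θ χ).1 hθ with h1 | h1
      · rw [hT0 χ (mem_biUnion.2 ⟨θ, hθA, h1⟩), mul_zero]
      · obtain ⟨ε, d, hd, hreg⟩ := hX₀ (rep θ) χ h1
        have h2 : (d : ℂ) * ∑ g : G, f v g * conj ((χ : G → ℂ) g) = 0 := by
          have h3 : ∀ g : G, (d : ℂ) * (f v g * conj ((χ : G → ℂ) g)) =
              ∑ ψ ∈ NE₀ (rep θ), (ε ψ : ℂ) * (f v g * conj ((ψ : G → ℂ) g)) := by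
            intro g
            by_cases hg : p ∣ orderOf g
            · rw [hf0 v g hg]
              simp
            · have h4 := congrArg conj (hreg g hg)
              rw [map_sum, map_mul] at h4
              have h5 : conj ((d : ℤ) : ℂ) = ((d : ℤ) : ℂ) := map_intCast (starRingEnd ℂ) d
              rw [h5] at h4
              calc (d : ℂ) * (f v g * conj ((χ : G → ℂ) g)) = f v g * ((d : ℂ) * conj ((χ : G → ℂ) g)) := by ring
                _ = _ := by
                  rw [← h4, Finset.mul_sum]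
                  refine Finset.sum_congr rfl fun ψ _ => ?_
                  rw [map_mul, show conj ((ε ψ : ℤ) : ℂ) = ((ε ψ : ℤ) : ℂ) from map_intCast (starRingEnd ℂ) _]
                  ring
          rw [Finset.mul_sum, Finset.sum_congr rfl fun g _ => h3 g, Finset.sum_comm]
          refine Finset.sum_eq_zero fun ψ hψ => ?_
          rw [← Finset.mul_sum, hT0 ψ (mem_biUnion.2 ⟨θ, hθA, hψ⟩), mul_zero]
        have h3 : (d : ℂ) ≠ 0 := by
          rcases hd with rfl | rfl <;> norm_num
        rcases mul_eq_zero.1 h2 with h4 | h4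
        · exact absurd h4 h3
        · rw [h4, mul_zero]
    · obtain ⟨d, hd⟩ := exists_hom hZ χ.2
      exact classInner_eq_zero (hfs v).2 hd fun hcd => hl (hcd ▸ hd)
  have hinj : Function.Injective L := by
    rw [← LinearMap.ker_eq_bot, LinearMap.ker_eq_bot']
    intro v hv
    have h1 : f v = 0 := by
      rw [classFunction_eq_sum (hfs v).1]
      refine Finset.sum_eq_zero fun χ _ => ?_
      rw [hcoef v hv χ, zero_smul]
    funext i
    have h2 := hfr v i
    rw [h1, Pi.zero_apply] at h2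
    rcases mul_eq_zero.1 h2.symm with h3 | h3
    · exact h3
    · exact absurd h3 (bump_self_ne_zero c (hr i))
  have h1 := LinearMap.finrank_le_finrank_of_injective hinj
  rw [Module.finrank_fintype_fun_eq_card, Module.finrank_fintype_fun_eq_card] at h1
  simpa only [_root_.ge_iff_le, _root_.Fintype.card_coe] using h1

end reg

/-! ### Classes of `C(y)` -/

section classes

end classes

/-! ### The criterion -/

section crit

variable {G : Type u} [Group G] [Finite G] {p : ℕ} [Fact p.Prime]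

/-- **The local data of a cover.** -/
theorem setup {Z : Subgroup G} [Z.Normal] (hZ : Z ≤ center G) (hZp : ¬ p ∣ Nat.card Z)
    (hsq : ¬ p ^ 2 ∣ Nat.card (G ⧸ Z)) {y : G ⧸ Z} (hy : orderOf y = p) {k w : ℕ}
    (hC : Nat.card (centralizer ({y} : Set (G ⧸ Z))) = p * k)
    (hN : Nat.card (normalizer ((zpowers y : Subgroup (G ⧸ Z)) : Set (G ⧸ Z))) = w * (p * k)) :
    ∃ (P : Sylow p G) (K : Subgroup G), Nat.card P = p ∧ IsComp p (P : Subgroup G) K ∧ Z ≤ K ∧
      Nat.card K = k * Nat.card Z ∧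
      (centralizer ((P : Subgroup G) : Set G)).relIndex (normalizer ((P : Subgroup G) : Set G)) = w ∧
      centralizer ((P : Subgroup G) : Set G) = (centralizer ({y} : Set (G ⧸ Z))).comap (QuotientGroup.mk' Z) ∧
      normalizer ((P : Subgroup G) : Set G) =
        (normalizer ((zpowers y : Subgroup (G ⧸ Z)) : Set (G ⧸ Z))).comap (QuotientGroup.mk' Z) := by
  classical
  have hp : p.Prime := Fact.out
  obtain ⟨u, rfl, hu⟩ := exists_lift hZp hy
  -- the Sylow subgroup
  have hcG := card_eq_card_quotient_mul_card_subgroup Z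
  have hG2 : ¬ p ^ 2 ∣ Nat.card G := by
    rw [hcG]
    intro h
    have hco : (p ^ 2).Coprime (Nat.card Z) := Nat.Coprime.pow_left 2 ((hp.coprime_iff_not_dvd).2 hZp)
    exact hsq (hco.dvd_of_dvd_mul_right h)
  have hzp : IsPGroup p (zpowers u) := IsPGroup.of_card (n := 1) (by rw [Nat.card_zpowers, hu, pow_one])
  obtain ⟨P, hPle⟩ := hzp.exists_le_sylow
  have hP : Nat.card P = p := by
    obtain ⟨n, hn⟩ := (IsPGroup.iff_card).1 P.2
    have h1 : Nat.card P ∣ Nat.card G := card_subgroup_dvd_card _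
    have h2 : n < 2 := by
      by_contra h3
      push Not at h3
      exact hG2 ((pow_dvd_pow p h3).trans (hn ▸ h1))
    have h3 : p ∣ Nat.card P := by
      have := card_dvd_of_le hPle
      rwa [Nat.card_zpowers, hu] at this
    interval_cases n
    · rw [hn, pow_zero, Nat.dvd_one] at h3
      exact absurd h3 hp.one_lt.ne'
    · rw [hn, pow_one]
  have hPz : (P : Subgroup G) = zpowers u := by
    symm
    refine eq_of_le_of_card_ge hPle ?_
    rw [Nat.card_zpowers, hu]
    exact hP.le
  obtain ⟨K, hK⟩ := exists_isComp P hP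
  have huP : u ∈ (P : Subgroup G) := hPle (mem_zpowers u)
  have hu1 : u ≠ 1 := by
    rintro rfl
    rw [orderOf_one] at hu
    exact hp.one_lt.ne hu
  have hCP : centralizer ((P : Subgroup G) : Set G) = centralizer ({u} : Set G) :=
    (Blocks.CyclicOrtho.centralizer_eq P hP huP hu1).symm
  -- the centralizer
  have hcent : centralizer ((P : Subgroup G) : Set G) =
      (centralizer ({(u : G ⧸ Z)} : Set (G ⧸ Z))).comap (QuotientGroup.mk' Z) := by
    rw [hCP]
    ext x
    rw [mem_centralizer_singleton_iff, mem_comap, mem_centralizer_singleton_iff]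
    constructor
    · intro h
      have := congrArg (QuotientGroup.mk' Z) h
      simpa only [_root_.QuotientGroup.mk'_apply, _root_.QuotientGroup.mk_mul] using this
    · intro h
      have h1 : (x : G ⧸ Z) * u * (x : G ⧸ Z)⁻¹ = (u : G ⧸ Z) ^ 1 := by
        have h2 : (x : G ⧸ Z) * u = u * x := h
        rw [h2, mul_inv_cancel_right, pow_one]
      have h2 := comm_of_comm hZ hZp hu h1
      rw [pow_one, mul_inv_eq_iff_eq_mul] at h2
      exact h2
  have hnorm : normalizer ((P : Subgroup G) : Set G) =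
      (normalizer ((zpowers (u : G ⧸ Z) : Subgroup (G ⧸ Z)) : Set (G ⧸ Z))).comap (QuotientGroup.mk' Z) := by
    have hPm : (P : Subgroup G).map (QuotientGroup.mk' Z) = zpowers (u : G ⧸ Z) := by
      rw [hPz, MonoidHom.map_zpowers]
      rfl
    apply le_antisymm
    · intro x hx
      rw [mem_comap, ← hPm]
      exact Subgroup.le_normalizer_map _ (_root_.Subgroup.mem_map_of_mem _ hx)
    · intro x hx
      rw [mem_comap] at hx
      have h1 : (x : G ⧸ Z) * u * (x : G ⧸ Z)⁻¹ ∈ zpowers (u : G ⧸ Z) :=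
        (mem_normalizer_iff.1 hx (u : G ⧸ Z)).1 (mem_zpowers _)
      obtain ⟨j, hj⟩ := mem_powers_iff_mem_zpowers.2 h1
      have h2 := comm_of_comm hZ hZp hu (x := x) (j := j) hj.symm
      refine mem_normalizer_fintype fun n hn => ?_
      have hn' : n ∈ zpowers u := by rw [← hPz]; exact hn
      obtain ⟨i, rfl⟩ := mem_powers_iff_mem_zpowers.2 hn'
      show x * u ^ i * x⁻¹ ∈ (P : Subgroup G)
      rw [← conj_pow, h2, hPz]
      exact pow_mem (pow_mem (mem_zpowers u) j) i
  have hcC : Nat.card (centralizer ((P : Subgroup G) : Set G)) = p * k * Nat.card Z := by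
    rw [hcent, card_comap, hC]
  have hcN : Nat.card (normalizer ((P : Subgroup G) : Set G)) = w * (p * k) * Nat.card Z := by
    rw [hnorm, card_comap, hN]
  have hcK : Nat.card K = k * Nat.card Z := by
    have h1 : Nat.card P * Nat.card K = Nat.card (centralizer ((P : Subgroup G) : Set G)) := by
      rw [← Nat.card_prod]
      exact Nat.card_congr (_root_.Cfsg.Agent.SmallSimple.ThetaSetup.prodEquiv hK hP).toEquiv
    rw [hP, hcC, mul_assoc] at h1
    exact Nat.eq_of_mul_eq_mul_left hp.pos h1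
  have hZK : Z ≤ K := by
    intro z hz
    rw [hK]
    refine ⟨?_, fun h => hZp ?_⟩
    · rw [mem_centralizer_iff]
      intro g _
      exact mem_center_iff.1 (hZ hz) g
    · have h1 := _root_.orderOf_dvd_natCard (⟨z, hz⟩ : Z)
      rw [← orderOf_submonoid] at h1
      exact h.trans h1
  have hk0 : 0 < k := by
    rcases Nat.eq_zero_or_pos k with h | h
    · rw [h, zero_mul] at hcK
      exact absurd hcK Nat.card_pos.ne'
    · exact h
  have hw : (centralizer ((P : Subgroup G) : Set G)).relIndex (normalizer ((P : Subgroup G) : Set G)) = w := by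
    have h1 : centralizer ((P : Subgroup G) : Set G) ≤ normalizer ((P : Subgroup G) : Set G) :=
      centralizer_le_normalizer _
    have h2 := Subgroup.card_mul_index ((centralizer ((P : Subgroup G) : Set G)).subgroupOf
      (normalizer ((P : Subgroup G) : Set G)))
    rw [Nat.card_congr (subgroupOfEquivOfLe h1).toEquiv, hcC, hcN] at h2
    have h3 : 0 < p * k * Nat.card Z := Nat.mul_pos (Nat.mul_pos hp.pos hk0) Nat.card_pos
    rw [Subgroup.relIndex]
    apply Nat.eq_of_mul_eq_mul_left h3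
    rw [h2]
    ring
  exact ⟨P, K, hP, hK, hZK, hcK, hw, hcent, hnorm⟩

/-- **The count of the `p`-regular classes, in terms of the quotient.** -/
theorem exists_dvd_reg {Z : Subgroup G} [Z.Normal] (hZ : Z ≤ center G) (hZp : ¬ p ∣ Nat.card Z)
    (hsq : ¬ p ^ 2 ∣ Nat.card (G ⧸ Z)) {y : G ⧸ Z} (hy : orderOf y = p) {k w a : ℕ}
    (hC : Nat.card (centralizer ({y} : Set (G ⧸ Z))) = p * k)
    (hN : Nat.card (normalizer ((zpowers y : Subgroup (G ⧸ Z)) : Set (G ⧸ Z))) = w * (p * k))
    (hk' : ∀ C₀ : Subgroup (G ⧸ Z), C₀ ≤ centralizer {y} → Nat.card C₀ = k → Nat.card (ConjClasses C₀) ≤ a)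
    (c : Z →* ℂˣ) {ι : Type*} [Fintype ι] (f : ι → G ⧸ Z) (hf : ∀ i j, IsConj (f i) (f j) → i = j)
    (hfp : ∀ i, ¬ p ∣ orderOf (f i)) (hg : ∀ (i : ι) (g : G), (g : G ⧸ Z) = f i → Good Z c g)
    (hlt : a * w < Fintype.card ι) :
    ∃ χ : IrrCharacter G, Lies Z c (χ : G → ℂ) ∧ p ∣ charDegree (χ : G → ℂ) := by
  classical
  have hp : p.Prime := Fact.out
  have hfinG : Finite (IrrCharacter G) := finite_irr
  by_contra hcon
  push Not at hcon
  obtain ⟨P, K, hP, hK, hZK, hcK, hw, hcent, -⟩ := setup hZ hZp hsq hy hC hN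
  have hfK : Finite (IrrCharacter K) := finite_irr
  have := Fintype.ofFinite (IrrCharacter K)
  set A : Finset (IrrCharacter K) := univ.filter fun θ => LiesK Z c K (θ : K → ℂ) with hA
  -- the bound for `A`
  have hAa : A.card ≤ a := by
    refine (H620.RIM.card_liesK_le_classes hZ hZK c A fun θ hθ => (mem_filter.1 hθ).2).trans (hk' _ ?_ ?_)
    · rintro x ⟨x, hx, rfl⟩
      have h2 : (x : G) ∈ centralizer ((P : Subgroup G) : Set G) := ((hK _).1 hx).1
      rw [hcent] at h2
      exact h2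
    · have h2 := card_comap (Z := Z) (K.map (QuotientGroup.mk' Z))
      have h3 : (K.map (QuotientGroup.mk' Z)).comap (QuotientGroup.mk' Z) = K := by
        rw [comap_map_eq, QuotientGroup.ker_mk', sup_of_le_left hZK]
      rw [h3, hcK] at h2
      exact (Nat.eq_of_mul_eq_mul_right Nat.card_pos h2).symm
  have hw0 : 0 < w := by
    rcases Nat.eq_zero_or_pos w with h | h
    · rw [h, zero_mul] at hN
      exact absurd hN Nat.card_pos.ne'
    · exact h
  choose r hr using fun i => QuotientGroup.mk_surjective (s := Z) (f i)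
  have h1 := card_reg_le hK hP hZ hZK hw A (fun θ => by rw [hA, mem_filter]; simp only [_root_.Finset.mem_univ, _root_.true_and]) (fun χ hl => by
      -- degree prime to `p`: nonzero at the `p`-elements
      obtain ⟨x, hx, hx1⟩ := exists_ne_one (P := (P : Subgroup G)) hP
      by_contra h2
      apply hcon χ hl
      obtain ⟨d, hd⟩ := exists_degree_eq (P : Subgroup G) (isIrr_isCharacter χ.2) fun x hx hx1 => by
        by_contra h3
        exact h2 ⟨x, by rw [Blocks.CyclicOrtho.orderOf_eq P hP hx hx1], h3⟩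
      rw [hP] at hd
      refine ⟨d, ?_⟩
      have h1 : ((charDegree (χ : G → ℂ) : ℕ) : ℂ) = ((p * d : ℕ) : ℂ) := by
        obtain ⟨n, hn⟩ := isCharacter_apply_one (isIrr_isCharacter χ.2)
        unfold charDegree
        rw [hn, Complex.natCast_re, Nat.floor_natCast, ← hn, hd]
        push_cast
        ring
      exact_mod_cast h1)
    r (fun i => hg i (r i) (hr i)) (fun i j h => hf i j (by rw [← hr i, ← hr j]; exact ConjClasses.mk_eq_mk_iff_isConj.1 h))
    (fun i g h hpg => by
      rw [hr i] at h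
      obtain ⟨x, hx⟩ := isConj_iff.1 (ConjClasses.mk_eq_mk_iff_isConj.1 h)
      apply hfp i
      have h2 : orderOf (f i) = orderOf (g : G ⧸ Z) := by
        rw [← hx]
        exact (MulEquiv.orderOf_eq (MulAut.conj x) (f i)).symm
      rw [h2]
      -- `p` divides the order of the image
      have h3 : orderOf g ∣ orderOf (g : G ⧸ Z) * Nat.card Z := by
        have h4 : g ^ orderOf (g : G ⧸ Z) ∈ Z := by
          rw [← QuotientGroup.eq_one_iff, QuotientGroup.mk_pow]
          exact pow_orderOf_eq_one _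
        have h5 := congrArg Subtype.val (pow_card_eq_one' (G := Z) (x := ⟨_, h4⟩))
        exact orderOf_dvd_of_pow_eq_one (by rw [pow_mul]; exact h5)
      exact (hp.dvd_mul.1 (hpg.trans h3)).resolve_right hZp)
  have h2 : ∑ θ ∈ A, Nat.card (stabAct hK (θ : K → ℂ)) ^ 2 ≤ a * w ^ 2 := by
    calc ∑ θ ∈ A, Nat.card (stabAct hK (θ : K → ℂ)) ^ 2 ≤ ∑ _θ ∈ A, w ^ 2 := by
          refine Finset.sum_le_sum fun θ _ => Nat.pow_le_pow_left ?_ 2
          have h1 := card_stabAct_mul_card_orb hK hP θ.2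
          rw [hw] at h1
          exact Nat.le_of_dvd hw0 (h1 ▸ dvd_mul_right _ _)
      _ = A.card * w ^ 2 := by rw [Finset.sum_const, smul_eq_mul]
      _ ≤ a * w ^ 2 := Nat.mul_le_mul_right _ hAa
  have h3 : w * Fintype.card ι ≤ w * (a * w) := by
    calc w * Fintype.card ι ≤ a * w ^ 2 := h1.trans h2
      _ = w * (a * w) := by ring
  have h4 := Nat.le_of_mul_le_mul_left h3 hw0
  omega

end crit

/-! ### `NB` -/

section nb

open Cfsg.Agent.H665.RIM Cfsg.Agent.H620.RIM

end nb

end Cfsg.Agent.H849.RIM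

private theorem dce_3a17b7e2ac68 : _root_.True := by
  try have : _root_.True := by simp only [_root_.Cfsg.Agent.H622.Over.bump.congr_simp]
  exact _root_.True.intro
end

-- part: H306/RIM/Tool
section
prune_inst 0x2314065451142120000180012700060a04d00059200230001914601400805c3222d032701cca0140818d2a2d02001004813000050421000000a004c000001012080ab4206b318ad0434001f803007190c00000080000000000000000000000000004010000
set_option linter.all false
open scoped Cfsg.Agent.FastGrp

/-!
# S4816: defect zero characters of covers, the form `NB p m S` (helper306)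

* `not_conj_pow`: `|N(⟨x⟩)| = |C(x)| e`, `x ~ x ^ k` implies `x ^ (k ^ e) = x`;
* `nb_of_dz`: the tool of helper849 as a statement `NB p m S`;
* `ker_dvd`: the order of the kernel divides the order of the multiplier.
-/

set_option autoImplicit false
set_option linter.unusedSectionVars false

namespace Cfsg.Agent.H306.RIM

open Cfsg Subgroup Cfsg.Agent.H665.RIM

universe u v

/-- `x ~ x ^ k` implies `x ^ (k ^ e) = x`, `e = |N(⟨x⟩) : C(x)|` -/
theorem pow_of_conj {S : Type*} [Group S] [Finite S] {x : S} {e k : ℕ}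
    (hN : Nat.card (normalizer ((zpowers x : Subgroup S) : Set S)) = Nat.card (centralizer ({x} : Set S)) * e)
    (h : IsConj x (x ^ k)) : x ^ (k ^ e) = x := by
  obtain ⟨g, hg⟩ := isConj_iff.1 h
  have hgN : g ∈ normalizer ((zpowers x : Subgroup S) : Set S) := by
    refine mem_normalizer_fintype fun n hn => ?_
    obtain ⟨i, rfl⟩ := mem_zpowers_iff.1 hn
    show g * x ^ i * g⁻¹ ∈ zpowers x
    rw [← conj_zpow, hg]
    exact zpow_mem (pow_mem (mem_zpowers x) k) i
  have hit : ∀ n : ℕ, g ^ n * x * (g ^ n)⁻¹ = x ^ (k ^ n) := by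
    intro n
    induction n with
    | zero => simp
    | succ n ih =>
      calc g ^ (n + 1) * x * (g ^ (n + 1))⁻¹ = g * (g ^ n * x * (g ^ n)⁻¹) * g⁻¹ := by rw [pow_succ']; group
        _ = (g * x * g⁻¹) ^ (k ^ n) := by rw [ih, ← conj_pow]
        _ = x ^ (k ^ (n + 1)) := by rw [hg, ← pow_mul, pow_succ']
  set f := Subgroup.normalizerMonoidHom (zpowers x) with hf
  have hker : Nat.card f.ker = Nat.card (centralizer ({x} : Set S)) := H306.QA.card_ker_normalizerMonoidHom x
  have hr : Nat.card f.range = e := by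
    have h1 := Subgroup.card_mul_index f.ker
    rw [Subgroup.index_ker, hker, hN] at h1
    exact Nat.eq_of_mul_eq_mul_left Nat.card_pos h1
  have h2 : f (⟨g, hgN⟩ ^ e) = 1 := by
    rw [map_pow]
    have h3 : (⟨f ⟨g, hgN⟩, ⟨_, rfl⟩⟩ : f.range) ^ Nat.card f.range = 1 := pow_card_eq_one'
    rw [hr] at h3
    exact congrArg Subtype.val h3
  have h4 : ((⟨g, hgN⟩ : normalizer ((zpowers x : Subgroup S) : Set S)) ^ e) ∈ f.ker := h2
  have h5 : g ^ e * x * (g ^ e)⁻¹ = x := by
    have h6 := congrArg (fun σ : MulAut (zpowers x) => ((σ ⟨x, mem_zpowers x⟩ : zpowers x) : S)) h2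
    simpa only [hf, _root_.SubmonoidClass.mk_pow, _root_.Subgroup.normalizerMonoidHom_apply_apply_coe, _root_.MulAut.one_apply] using h6
  rw [← hit e, h5]

/-- `x` is not conjugate to `x ^ k` -/
theorem not_conj {S : Type*} [Group S] [Finite S] {x : S} {p e k : ℕ} (hx : orderOf x = p)
    (hN : Nat.card (normalizer ((zpowers x : Subgroup S) : Set S)) = Nat.card (centralizer ({x} : Set S)) * e)
    (hk : k ^ e % p ≠ 1 % p) : ¬ IsConj x (x ^ k) := by
  intro h
  have h1 := pow_of_conj hN h
  apply hk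
  have h2 : x ^ (k ^ e) = x ^ 1 := by rw [h1, pow_one]
  rw [pow_eq_pow_iff_modEq, hx] at h2
  exact h2

theorem ord_pow {S : Type*} [Group S] {x : S} {n k : ℕ} (hx : orderOf x = n) (hk : n.Coprime k) :
    orderOf (x ^ k) = n := by
  rw [Nat.Coprime.orderOf_pow (by rw [hx]; exact hk), hx]

theorem order_isConj {S : Type*} [Group S] {x y : S} (h : IsConj x y) : orderOf x = orderOf y := by
  obtain ⟨c, hc⟩ := isConj_iff.1 h
  rw [← hc]
  exact (orderOf_injective (MulAut.conj c).toMonoidHom (MulAut.conj c).injective x).symm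

/-- the order of the kernel of a perfect central extension divides the order of the multiplier -/
theorem ker_dvd {S : Type u} [Group S] {T : Type v} [Group T] {M : ℕ} (hA : HasCyclicSchurMultiplier T M) (e : S ≃* T)
    {E : Type u} [Group E] (π : E →* S) (hπ : Function.Surjective π) (hc : π.ker ≤ center E) (hE : commutator E = ⊤) :
    Nat.card π.ker ∣ M := by
  have hk : (e.toMonoidHom.comp π).ker = π.ker := by
    ext x
    rw [MonoidHom.mem_ker, MonoidHom.mem_ker, MonoidHom.comp_apply]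
    change e _ = 1 ↔ _
    rw [map_eq_one_iff _ e.injective]
  have h := H95.StemCover.card_ker_dvd hA hE (e.toMonoidHom.comp π) (e.surjective.comp hπ) (by rw [hk]; exact hc)
  rw [hk] at h
  rwa [Nat.card_congr (Multiplicative.toAdd (α := ZMod M)), Nat.card_zmod] at h

/-- **The count of helper849 as `NB p m S`.**  `y` of order `p`, `|C(y)| = p k`, `|N(⟨y⟩)| = w p k`, and `n` classes of
elements of order prime to `m`. -/
theorem nb_of_dz {p m : ℕ} [Fact p.Prime] {S : Type u} [Group S] [Finite S] (hpm : ¬ p ∣ m)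
    (hsq : ¬ p ^ 2 ∣ Nat.card S) {y : S} (hy : orderOf y = p) {k w : ℕ}
    (hC : Nat.card (centralizer ({y} : Set S)) = p * k)
    (hN : Nat.card (normalizer ((zpowers y : Subgroup S) : Set S)) = w * (p * k)) {n : ℕ} (g : Fin n → S)
    (hg : ∀ i, (orderOf (g i)).Coprime m) (hinj : ∀ i j, IsConj (g i) (g j) → i = j)
    (hlt : k * (w ^ 2 + (p - 1)) < w * n) : NB p m S := by
  classical
  intro E _ _ π hπ hcen _ hm l _
  let f : E ⧸ π.ker ≃* S := QuotientGroup.quotientKerEquivOfSurjective π hπ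
  have hinj' : Function.Injective fun i : Fin n => ConjClasses.mk (f.symm (g i)) := by
    intro i j h
    apply hinj
    have h1 := ConjClasses.mk_eq_mk_iff_isConj.1 h
    have h2 := f.toMonoidHom.map_isConj h1
    simpa only [_root_.isConj_iff, _root_.MulEquiv.toMonoidHom_eq_coe, _root_.MonoidHom.coe_coe, _root_.MulEquiv.apply_symm_apply] using h2
  have hC' : Nat.card (centralizer ({f.symm y} : Set (E ⧸ π.ker))) = p * k := by
    rw [← hC]
    refine Nat.card_congr (f.toEquiv.subtypeEquiv fun x => ?_)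
    rw [mem_centralizer_singleton_iff, mem_centralizer_singleton_iff]
    show _ ↔ f x * y = y * f x
    constructor
    · intro h
      have := congrArg f h
      simpa only [_root_.map_mul, _root_.MulEquiv.apply_symm_apply] using this
    · intro h
      apply f.injective
      simpa using h
  have hmap : (zpowers (f.symm y)).map f.toMonoidHom = zpowers y := by
    rw [MonoidHom.map_zpowers]
    congr 1
    exact f.apply_symm_apply y
  have hN' : Nat.card (normalizer ((zpowers (f.symm y) : Subgroup (E ⧸ π.ker)) : Set (E ⧸ π.ker))) = w * (p * k) := by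
    rw [← hN]
    refine Nat.card_congr (f.toEquiv.subtypeEquiv fun x => ?_)
    show x ∈ normalizer ((zpowers (f.symm y) : Subgroup (E ⧸ π.ker)) : Set (E ⧸ π.ker)) ↔
      f x ∈ normalizer ((zpowers y : Subgroup S) : Set S)
    rw [mem_normalizer_iff, mem_normalizer_iff]
    have key : ∀ h : E ⧸ π.ker, h ∈ zpowers (f.symm y) ↔ f h ∈ zpowers y := by
      intro h
      rw [← hmap]
      exact ⟨fun h1 => mem_map_of_mem _ h1, fun ⟨a, ha, hb⟩ => by
        have : a = h := f.injective hb
        exact this ▸ ha⟩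
    constructor
    · intro h a
      have := h (f.symm a)
      rw [key, key] at this
      simpa only [_root_.MulEquiv.apply_symm_apply, _root_.map_mul, _root_.map_inv] using this
    · intro h a
      rw [key, key, map_mul, map_mul, map_inv]
      exact h (f a)
  have hy' : orderOf (f.symm y) = p := by
    rw [← hy]
    exact orderOf_injective f.symm.toMonoidHom f.symm.injective y
  obtain ⟨χ, hl, hd⟩ := H849.RIM.exists_dz_quot (p := p) hcen (by rw [hm]; exact hpm)
    (by rw [Nat.card_congr f.toEquiv]; exact hsq) hy' hC' hN' l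
    (Finset.univ.image fun i : Fin n => ConjClasses.mk (f.symm (g i))) (by
      intro C hC
      obtain ⟨i, -, rfl⟩ := Finset.mem_image.1 hC
      refine ⟨_, rfl, ?_⟩
      rw [hm, show orderOf (f.symm (g i)) = orderOf (g i) from orderOf_injective f.symm.toMonoidHom f.symm.injective _]
      exact hg i) (by
      rw [Finset.card_image_of_injective _ hinj', Finset.card_univ, Fintype.card_fin]
      exact hlt)
  refine ⟨χ, χ.2, fun z => ?_, hd⟩
  have := hl 1 z
  rwa [one_mul] at this

end Cfsg.Agent.H306.RIM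
end

-- part: H620/RIM/Div
section
prune_inst 0x300065006000100000180000200060200800000200430000000000000909000228010601ae200000108208c00001000813000000420000000a0000000001010000000004a0080000000000000000010000000000000000000000000000000000004010000
set_option linter.all false
open scoped Cfsg.Agent.FastGrp

/-!
# S4816: divisibility of character values by commutators in the centre (helper620)

`a`, `b` commute with `w`, `⁅a, b⁆ = z ∈ Z ≤ Z(G)`, `χ` over `c : Z →* ℂˣ`, `d` the order of `c z`: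

* `exists_integral` : `χ(w) = d α` with `α` an algebraic integer;
* `exists_zero_over_d` : if `|C_G(w)| < d ^ 2 |Z| #{χ over c}` then some `χ` over `c` vanishes at `w`;
* `exists_of_cent_d` : `y ∈ S` a `p`-element, `F` a set of classes with `MGood`, `|C_S(y)| < d ^ 2 |F|`.
-/

set_option autoImplicit false
set_option linter.unusedSectionVars false

namespace Cfsg.Agent.H620.RIM

open Cfsg Subgroup Finset Representation
open Cfsg.Agent.Characters.Core
open Cfsg.Agent.H622.Over Cfsg.Agent.H849.RIM Cfsg.Agent.H665.RIM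
open scoped ComplexConjugate commutatorElement

universe u v

section rep

variable {G : Type u} [Group G]

/-- The determinant of a commutator. -/
theorem pow_finrank {V : Type v} [AddCommGroup V] [Module ℂ V] [FiniteDimensional ℂ V]
    (ρ : Representation ℂ G V) {a b : G} {ε : ℂ} (h : ρ ⁅a, b⁆ = ε • (LinearMap.id : V →ₗ[ℂ] V)) :
    ε ^ Module.finrank ℂ V = 1 := by
  have h1 : LinearMap.det (ρ ⁅a, b⁆) = 1 := by
    have h2 : (LinearMap.det.comp ρ : G →* ℂ) ⁅a, b⁆ = 1 := by
      have h3 : (LinearMap.det.comp ρ : G →* ℂ).toHomUnits ⁅a, b⁆ = 1 := by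
        rw [map_commutatorElement, commutatorElement_eq_one_iff_mul_comm]
        exact mul_comm _ _
      have h4 := congrArg Units.val h3
      rwa [MonoidHom.coe_toHomUnits, Units.val_one] at h4
    exact h2
  rw [h, LinearMap.det_smul, LinearMap.det_id, mul_one] at h1
  exact h1

/-- The value at a central element. -/
theorem exists_integral_rep [Finite G] {w : G} (hw : w ∈ center G) {a b : G} {ε : ℂ}
    (V : Type v) [AddCommGroup V] [Module ℂ V] [FiniteDimensional ℂ V] (ρ : Representation ℂ G V) :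
    ρ ⁅a, b⁆ = ε • (LinearMap.id : V →ₗ[ℂ] V) →
      ∃ α : ℂ, IsIntegral ℤ α ∧ ρ.character w = (orderOf ε : ℂ) * α := by
  refine rep_induction (P := fun V _ _ ρ => ρ ⁅a, b⁆ = ε • (LinearMap.id : V →ₗ[ℂ] V) →
    ∃ α : ℂ, IsIntegral ℤ α ∧ ρ.character w = (orderOf ε : ℂ) * α) ?_ ?_ V ρ
  · intro V _ _ ρ hV _
    refine ⟨0, isIntegral_zero, ?_⟩
    have : ρ w = 0 := by ext x; exact Subsingleton.elim _ _
    simp [character, this]
  · rintro V _ _ _ ρ U U' h hU ih hρ
    have hrU : U.toRepresentation ⁅a, b⁆ = ε • (LinearMap.id : U.toSubmodule →ₗ[ℂ] U.toSubmodule) := by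
      ext x
      have h1 := LinearMap.congr_fun hρ (x : V)
      exact h1
    have hrU' : U'.toRepresentation ⁅a, b⁆ = ε • (LinearMap.id : U'.toSubmodule →ₗ[ℂ] U'.toSubmodule) := by
      ext x
      have h1 := LinearMap.congr_fun hρ (x : V)
      exact h1
    obtain ⟨α', hα', h'⟩ := ih hrU'
    rw [character_eq_add_of_isCompl U U' h, Pi.add_apply, h']
    -- the irreducible part
    have hd : orderOf ε ∣ Module.finrank ℂ U.toSubmodule :=
      orderOf_dvd_of_pow_eq_one (pow_finrank U.toRepresentation hrU)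
    obtain ⟨k, hk⟩ := hd
    obtain ⟨μ, hμ⟩ := OddOrderCharacters.ClassSum.schur_scalar U.toRepresentation hU (U.toRepresentation w)
      (fun g => by
        have h1 : w * g = g * w := (mem_center_iff.1 hw g).symm
        have h2 := congrArg U.toRepresentation h1
        rwa [map_mul, map_mul] at h2)
    have hnt : Nontrivial U.toSubmodule := by
      have := CharactersDeep.Extraspecial.nontrivial_of_isIrreducible U.toRepresentation hU
      exact this
    have hμi : IsIntegral ℤ μ := by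
      have h1 : μ ^ Nat.card G = 1 := by
        obtain ⟨v, hv⟩ := exists_ne (0 : U.toSubmodule)
        have h2 := Characters.Values.rep_pow_card U.toRepresentation w
        have h3 : ∀ n : ℕ, ((U.toRepresentation w) ^ n) v = μ ^ n • v := by
          intro n
          induction n with
          | zero => simp only [_root_.pow_zero, _root_.Module.End.one_apply, _root_.one_smul]
          | succ n ih => rw [pow_succ', Module.End.mul_apply, ih, map_smul, hμ]; simp only [pow_succ, mul_smul, _root_.LinearMap.smul_apply, _root_.LinearMap.id_coe, _root_.id_eq]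
        have h4 := h3 (Nat.card G)
        rw [h2] at h4
        have h5 : (μ ^ Nat.card G - 1) • v = 0 := by
          rw [sub_smul, one_smul, ← h4]
          simp only [_root_.Module.End.one_apply, _root_.sub_self]
        rcases smul_eq_zero.1 h5 with h6 | h6
        · exact sub_eq_zero.1 h6
        · exact absurd h6 hv
      exact ⟨Polynomial.X ^ Nat.card G - 1, Polynomial.monic_X_pow_sub_C (1 : ℤ) Nat.card_pos.ne', by simp [h1]⟩
    have hki : IsIntegral ℤ ((k : ℂ) * μ) := by
      have h1 : IsIntegral ℤ (k : ℂ) := by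
        have := isIntegral_algebraMap (R := ℤ) (A := ℂ) (x := (k : ℤ))
        simpa using this
      exact h1.mul hμi
    refine ⟨k * μ + α', hki.add hα', ?_⟩
    have h1 : U.toRepresentation.character w = μ * Module.finrank ℂ U.toSubmodule := by
      rw [Representation.character, hμ, map_smul]
      simp
    rw [h1, hk]
    push_cast
    ring

/-- **Divisibility of the values.** -/
theorem exists_integral [Finite G] {Z : Subgroup G} (hZ : Z ≤ center G) {c : Z →* ℂˣ} {χ : G → ℂ}
    (hχ : IsIrrCharacter G χ) (hc : Lies Z c χ) {w a b : G} (ha : Commute w a) (hb : Commute w b) {z : Z}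
    (hz : ⁅a, b⁆ = (z : G)) : ∃ α : ℂ, IsIntegral ℤ α ∧ χ w = (orderOf (c z) : ℂ) * α := by
  obtain ⟨n, ρ, hρ, rfl⟩ := hχ
  have hzc : (z : G) ∈ center G := hZ z.2
  obtain ⟨μ, hμ⟩ := OddOrderCharacters.ClassSum.schur_scalar ρ hρ (ρ z)
    (fun g => by
      have h1 : (z : G) * g = g * z := (mem_center_iff.1 hzc g).symm
      have h2 := congrArg ρ h1
      rwa [map_mul, map_mul] at h2)
  have h1 : ρ.character 1 ≠ 0 := isIrr_apply_one_ne_zero ⟨n, ρ, hρ, rfl⟩
  have h2 : μ = (c z : ℂ) := by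
    have h3 := hc 1 z
    rw [one_mul] at h3
    have h4 : ρ.character z = μ * ρ.character 1 := by
      rw [Representation.character, hμ, map_smul, Representation.char_one]
      simp only [_root_.LinearMap.trace_id, _root_.Module.finrank_fintype_fun_eq_card, _root_.Fintype.card_fin, _root_.smul_eq_mul]
    rw [h4, mul_comm] at h3
    exact mul_left_cancel₀ h1 h3
  let K : Subgroup G := centralizer {w}
  have hw' : (⟨w, mem_centralizer_singleton_iff.2 rfl⟩ : K) ∈ center K := by
    rw [mem_center_iff]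
    intro g
    exact Subtype.ext (mem_centralizer_singleton_iff.1 g.2)
  obtain ⟨α, hα, h⟩ := exists_integral_rep (G := K) hw' (a := ⟨a, mem_centralizer_singleton_iff.2 ha.symm⟩)
    (b := ⟨b, mem_centralizer_singleton_iff.2 hb.symm⟩) (ε := (c z : ℂ)) (Fin n → ℂ) (ρ.comp K.subtype) (by
      have h3 : (ρ.comp K.subtype) ⁅(⟨a, mem_centralizer_singleton_iff.2 ha.symm⟩ : K),
        (⟨b, mem_centralizer_singleton_iff.2 hb.symm⟩ : K)⁆ = ρ z := by
        rw [← hz]
        rfl
      rw [h3, hμ, h2])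
  refine ⟨α, hα, ?_⟩
  rw [orderOf_units] at h
  exact h

end rep

section count

variable {G : Type u} [Group G] [Finite G]

/-- **Zeros over a central character, with divisibility.** -/
theorem exists_zero_over_d {Z : Subgroup G} (hZ : Z ≤ center G) (c : Z →* ℂˣ) {w : G}
    (hw : (orderOf w).Coprime (Nat.card Z)) {d : ℕ} (hd0 : 0 < d)
    (hd : ∀ χ : IrrCharacter G, Lies Z c (χ : G → ℂ) → ∀ j : ℕ, ∃ α : ℂ, IsIntegral ℤ α ∧ (χ : G → ℂ) (w ^ j) = (d : ℂ) * α)
    (h : Nat.card (centralizer ({w} : Set G)) <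
      d ^ 2 * (Nat.card Z * Nat.card {χ : IrrCharacter G // Lies Z c (χ : G → ℂ)})) :
    ∃ χ : IrrCharacter G, Lies Z c (χ : G → ℂ) ∧ (χ : G → ℂ) w = 0 := by
  classical
  by_contra hcon
  push Not at hcon
  have := Fintype.ofFinite G
  have := finite_irr (G := G)
  have := Fintype.ofFinite (IrrCharacter G)
  set T : Finset (IrrCharacter G) := univ.filter fun χ : IrrCharacter G => Lies Z c (χ : G → ℂ) with hT
  have hTc : Nat.card {χ : IrrCharacter G // Lies Z c (χ : G → ℂ)} = T.card := by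
    rw [Nat.card_eq_fintype_card, Fintype.card_subtype]
  let W : Subgroup G := zpowers w
  have := Fintype.ofFinite W
  set X : Finset W := Finset.univ.filter fun g => ∃ m : ℕ, m.Coprime (Nat.card W) ∧ (w ^ m : G) = (g : G) with hX
  have hWc : Nat.card W = orderOf w := Nat.card_zpowers w
  have hwX : (⟨w, mem_zpowers w⟩ : W) ∈ X := by
    rw [hX, Finset.mem_filter]
    exact ⟨Finset.mem_univ _, 1, Nat.coprime_one_left _, pow_one w⟩
  have hXpos : 0 < X.card := Finset.card_pos.2 ⟨_, hwX⟩
  have hclosed : ∀ g ∈ X, ∀ m : ℕ, m.Coprime (Nat.card W) → g ^ m ∈ X := by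
    intro g hg m hm
    rw [hX, Finset.mem_filter] at hg ⊢
    obtain ⟨-, k, hk, h1⟩ := hg
    exact ⟨Finset.mem_univ _, k * m, Nat.Coprime.mul_left hk hm, by rw [pow_mul, h1]; rfl⟩
  have hcent : ∀ g ∈ X, Nat.card (centralizer ({(g : G)} : Set G)) = Nat.card (centralizer ({w} : Set G)) := by
    intro g hg
    rw [hX, Finset.mem_filter] at hg
    obtain ⟨-, k, hk, h1⟩ := hg
    rw [← h1]
    have hk' : k.Coprime (orderOf w) := by rwa [hWc] at hk
    have h2 : centralizer ({w ^ k} : Set G) = centralizer ({w} : Set G) := by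
      ext x
      rw [mem_centralizer_singleton_iff, mem_centralizer_singleton_iff]
      constructor
      · intro hx
        have h1 : w ∈ zpowers (w ^ k) := by
          rw [mem_zpowers_pow_iff]
          exact hk'
        rw [← mem_powers_iff_mem_zpowers] at h1
        obtain ⟨l, hl⟩ := h1
        have h3 : Commute x ((w ^ k) ^ l) := Commute.pow_right (show Commute x (w ^ k) from hx) l
        have h4 : (w ^ k) ^ l = w := hl
        rw [h4] at h3
        exact h3
      · intro hx
        exact Commute.pow_right (show Commute x w from hx) k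
    rw [h2]
  have hord : ∀ g ∈ X, (orderOf (g : G)).Coprime (Nat.card Z) := by
    intro g hg
    rw [hX, Finset.mem_filter] at hg
    obtain ⟨-, k, hk, h1⟩ := hg
    rw [← h1]
    exact hw.coprime_dvd_left (orderOf_pow_dvd k)
  have hdC : (d : ℂ) ≠ 0 := by exact_mod_cast hd0.ne'
  have hdR : (0 : ℝ) < (d : ℝ) ^ 2 := by positivity
  have key : ∀ χ ∈ T, (X.card : ℝ) * (d : ℝ) ^ 2 ≤ ∑ g ∈ X, ‖(χ : G → ℂ) g‖ ^ 2 := by
    intro χ hχ
    have hl := (mem_filter.1 hχ).2
    have hch : IsCharacter G (χ : G → ℂ) := isIrr_isCharacter χ.2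
    have hchW : IsCharacter W (fun g : W => (χ : G → ℂ) g) := isCharacter_comp W.subtype hch
    have hgen : IsGeneralizedCharacter W (fun g : W => (χ : G → ℂ) g) :=
      isGeneralizedCharacter_def.2 ⟨_, 0, hchW, isCharacter_zero, by rw [sub_zero]⟩
    have hval : ∀ g : W, ∃ α : ℂ, IsIntegral ℤ α ∧ (χ : G → ℂ) g = (d : ℂ) * α := by
      intro g
      obtain ⟨j, hj⟩ : ∃ j : ℕ, w ^ j = (g : G) := by
        have := g.2
        rw [← mem_powers_iff_mem_zpowers] at this
        exact this
      obtain ⟨α, h1, h2⟩ := hd χ hl j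
      exact ⟨α, h1, by rw [← hj, h2]⟩
    have hcast : ∀ g : W, ((‖(χ : G → ℂ) g‖ ^ 2 / (d : ℝ) ^ 2 : ℝ) : ℂ) =
        ((χ : G → ℂ) g * (χ : G → ℂ) ((g⁻¹ : W) : G)) / (d : ℂ) ^ 2 := by
      intro g
      push_cast
      have h1 : (χ : G → ℂ) ((g : G)⁻¹) = conj ((χ : G → ℂ) g) := isCharacter_apply_inv hch (g : G)
      rw [h1, Complex.mul_conj']
    have h1 := Cfsg.Agent.OddOrderCharacters.PF13.SumBound.card_le_sum_of_gal (G := W)
      (fun g => ‖(χ : G → ℂ) g‖ ^ 2 / (d : ℝ) ^ 2) ?_ ?_ X hclosed ?_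
    · rw [← Finset.sum_div, le_div_iff₀ hdR] at h1
      exact h1
    · intro g
      rw [hcast]
      obtain ⟨α, h1, h2⟩ := hval g
      obtain ⟨β, h3, h4⟩ := hval g⁻¹
      rw [h2, h4]
      have h5 : (d : ℂ) * α * ((d : ℂ) * β) / (d : ℂ) ^ 2 = α * β := by
        field_simp
      rw [h5]
      exact h1.mul h3
    · intro σ
      obtain ⟨m, hm, h2⟩ := Cfsg.Agent.OddOrderCharacters.PF13.SumBound.gen_exists_pow (G := W) σ
      refine ⟨m, hm, fun g => ?_⟩
      rw [hcast, hcast, map_div₀, map_mul, map_pow, map_natCast]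
      have h3 := h2 _ hgen g
      have h4 := h2 _ hgen g⁻¹
      rw [inv_pow] at h4
      rw [h3, h4]
    · intro g hg
      have h2 := hcon χ hl
      rw [hX, Finset.mem_filter] at hg
      obtain ⟨-, k, hk, h3⟩ := hg
      have hk' : k.Coprime (orderOf w) := by rwa [hWc] at hk
      have h4 : (χ : G → ℂ) g ≠ 0 := by
        rw [← h3]
        exact fun h0 => h2 ((H710.VanCount.zero_pow_iff χ hk').1 h0)
      have h5 : 0 < ‖(χ : G → ℂ) g‖ := norm_pos_iff.2 h4
      positivity
  have h1 : (Nat.card Z : ℝ) * ((T.card : ℝ) * (X.card * (d : ℝ) ^ 2)) ≤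
      X.card * Nat.card (centralizer ({w} : Set G)) := by
    calc (Nat.card Z : ℝ) * ((T.card : ℝ) * (X.card * (d : ℝ) ^ 2)) =
          Nat.card Z * ∑ _χ ∈ T, ((X.card : ℝ) * (d : ℝ) ^ 2) := by
          rw [Finset.sum_const, nsmul_eq_mul]
      _ ≤ Nat.card Z * ∑ χ ∈ T, ∑ g ∈ X, ‖(χ : G → ℂ) g‖ ^ 2 :=
          mul_le_mul_of_nonneg_left (Finset.sum_le_sum key) (Nat.cast_nonneg _)
      _ = ∑ g ∈ X, (Nat.card Z : ℝ) * ∑ χ ∈ T, ‖(χ : G → ℂ) g‖ ^ 2 := by
          rw [Finset.sum_comm, Finset.mul_sum]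
      _ = ∑ g ∈ X, (Nat.card (centralizer ({w} : Set G)) : ℝ) := by
          refine Finset.sum_congr rfl fun g hg => ?_
          rw [← hcent g hg, ← sum_norm_sq_over hZ c (hord g hg)]
      _ = _ := by rw [Finset.sum_const, nsmul_eq_mul]
  have h2 : d ^ 2 * (Nat.card Z * T.card) ≤ Nat.card (centralizer ({w} : Set G)) := by
    have h3 : ((d ^ 2 * (Nat.card Z * T.card) * X.card : ℕ) : ℝ) ≤
        ((Nat.card (centralizer ({w} : Set G)) * X.card : ℕ) : ℝ) := by
      push_cast
      linarith only [h1]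
    exact Nat.le_of_mul_le_mul_right (by exact_mod_cast h3) hXpos
  rw [hTc] at h
  omega

/-- Commutation with powers. -/
theorem exists_integral_pow {Z : Subgroup G} (hZ : Z ≤ center G) {c : Z →* ℂˣ} {w a b : G} (ha : Commute w a)
    (hb : Commute w b) {z : Z} (hz : ⁅a, b⁆ = (z : G)) (χ : IrrCharacter G) (hχ : Lies Z c (χ : G → ℂ)) (j : ℕ) :
    ∃ α : ℂ, IsIntegral ℤ α ∧ (χ : G → ℂ) (w ^ j) = (orderOf (c z) : ℂ) * α :=
  exists_integral hZ χ.2 hχ (ha.pow_left j) (hb.pow_left j) hz

/-- **Some degree is divisible by `p`**: `w` a `p`-element, `d ^ 2 |Z| #{χ over c} > |C_G(w)|`. -/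
theorem exists_dvd_over_d {p : ℕ} [Fact p.Prime] {Z : Subgroup G} (hZ : Z ≤ center G) (hZp : ¬ p ∣ Nat.card Z)
    (c : Z →* ℂˣ) {w : G} {n : ℕ} (hw : w ^ p ^ n = 1) {a b : G} (ha : Commute w a) (hb : Commute w b) {z : Z}
    (hz : ⁅a, b⁆ = (z : G))
    (h : Nat.card (centralizer ({w} : Set G)) <
      orderOf (c z) ^ 2 * (Nat.card Z * Nat.card {χ : IrrCharacter G // Lies Z c (χ : G → ℂ)})) :
    ∃ χ : IrrCharacter G, Lies Z c (χ : G → ℂ) ∧ p ∣ charDegree (χ : G → ℂ) := by
  have hp : p.Prime := Fact.out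
  have hco : (orderOf w).Coprime (Nat.card Z) :=
    (Nat.Coprime.pow_left n ((hp.coprime_iff_not_dvd).2 hZp)).coprime_dvd_left (orderOf_dvd_of_pow_eq_one hw)
  have hd0 : 0 < orderOf (c z) := (c.isOfFinOrder (isOfFinOrder_of_finite z)).orderOf_pos
  obtain ⟨χ, hl, h0⟩ := exists_zero_over_d hZ c hco hd0 (exists_integral_pow hZ ha hb hz) h
  refine ⟨χ, hl, ?_⟩
  obtain ⟨M, hM⟩ := Blocks.ExistsModular.exists_isPModular hp
  have hMp : M.IsPrime := hM.2.1.isPrime
  have h1 := H849.OZ.av_sub_mem (χ := χ) hp hMp hM.2.2 w (j := 0) (n := n) (by rw [pow_zero, one_pow, hw])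
  have h3 : H732.VZ.av χ w = 0 := Subtype.ext h0
  rw [h3, pow_zero, zero_sub, Ideal.neg_mem_iff] at h1
  have h4 : H732.VZ.av χ 1 = ((charDegree (χ : G → ℂ) : ℤ) : AlgInt) := by
    apply Subtype.ext
    rw [H732.VZ.av_coe, ← H686.CharKit.charDegree_irr χ]
    simp only [_root_.Int.cast_natCast, _root_.SubringClass.coe_natCast]
  rw [h4, H732.VZ.int_mem_iff hp hMp hM.2.2] at h1
  exact_mod_cast h1

end count

section quot

theorem card_comap_surj {E : Type u} [Group E] [Finite E] {S : Type v} [Group S] (π : E →* S)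
    (hπ : Function.Surjective π) (H : Subgroup S) :
    Nat.card (H.comap π) = Nat.card H * Nat.card π.ker := by
  have hS : Finite S := Finite.of_surjective π hπ
  have h1 := Subgroup.index_comap_of_surjective H hπ
  have h2 := (H.comap π).card_mul_index
  have h3 := H.card_mul_index
  have h4 := π.ker.card_mul_index
  have h6 : π.ker.index = Nat.card S := by
    rw [Subgroup.index_ker, MonoidHom.range_eq_top.2 hπ, Nat.card_congr topEquiv.toEquiv]
  rw [h1] at h2
  have h5 : 0 < H.index := Nat.pos_of_ne_zero index_ne_zero_of_finite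
  apply Nat.eq_of_mul_eq_mul_right h5
  rw [h2, ← h4, h6, ← h3]
  ring

/-- The centralizer of a lift of a `p`-element. -/
theorem centralizer_lift {E : Type u} [Group E] [Finite E] {S : Type v} [Group S] (π : E →* S)
    (hπ : Function.Surjective π) (hker : π.ker ≤ center E) {w : E} (hw : (orderOf w).Coprime (Nat.card π.ker)) :
    centralizer ({w} : Set E) = (centralizer ({π w} : Set S)).comap π := by
  ext x
  rw [mem_centralizer_singleton_iff, mem_comap, mem_centralizer_singleton_iff]
  constructor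
  · intro h
    have := congrArg π h
    simpa only [_root_.map_mul] using this
  · intro h2
    have h3 : w⁻¹ * (x * w * x⁻¹) ∈ π.ker := by
      rw [MonoidHom.mem_ker, map_mul, map_mul, map_mul, map_inv, map_inv, h2, mul_inv_cancel_right, inv_mul_cancel]
    have h4 : IsConj w (w * ((⟨_, h3⟩ : π.ker) : E)) := by
      rw [isConj_iff]
      exact ⟨x, by simp⟩
    have h5 := congrArg Subtype.val (eq_one_of_conj hker hw _ h4)
    have h6 : w⁻¹ * (x * w * x⁻¹) = 1 := h5
    rw [inv_mul_eq_one] at h6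
    rw [eq_comm, mul_inv_eq_iff_eq_mul] at h6
    exact h6

theorem card_centralizer_lift {E : Type u} [Group E] [Finite E] {S : Type v} [Group S] (π : E →* S)
    (hπ : Function.Surjective π) (hker : π.ker ≤ center E) {w : E} (hw : (orderOf w).Coprime (Nat.card π.ker)) :
    Nat.card (centralizer ({w} : Set E)) = Nat.card (centralizer ({π w} : Set S)) * Nat.card π.ker := by
  rw [centralizer_lift π hπ hker hw, card_comap_surj π hπ]

/-- **The centralizer count with divisibility, for one cover.** -/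
theorem exists_of_cent_d {p : ℕ} (hp : p.Prime) {S : Type u} [Group S] {E : Type u} [Group E] [Finite E] (π : E →* S)
    (hπ : Function.Surjective π) (hker : π.ker ≤ center E) (hpm : ¬ p ∣ Nat.card π.ker) (l : π.ker →* ℂˣ)
    {w : E} {n : ℕ} (hw : w ^ p ^ n = 1) {a b : E} (ha : Commute w a) (hb : Commute w b) {z : π.ker}
    (hz : ⁅a, b⁆ = (z : E)) (F : Finset (ConjClasses S))
    (hF : ∀ C ∈ F, ∃ g : S, ConjClasses.mk g = C ∧ MGood (Nat.card π.ker) g)
    (hlt : Nat.card (centralizer ({π w} : Set S)) < orderOf (l z) ^ 2 * F.card) :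
    ∃ χ : E → ℂ, IsIrrCharacter E χ ∧ (∀ z : π.ker, χ z = χ 1 * l z) ∧ p ∣ charDegree χ := by
  have : Fact p.Prime := ⟨hp⟩
  have hco : (orderOf w).Coprime (Nat.card π.ker) :=
    (Nat.Coprime.pow_left n ((hp.coprime_iff_not_dvd).2 hpm)).coprime_dvd_left (orderOf_dvd_of_pow_eq_one hw)
  let e : (E ⧸ π.ker) ≃* S := QuotientGroup.quotientKerEquivOfSurjective π hπ
  obtain ⟨F', hF'c, hF'⟩ := exists_transport e F hF
  have h1 := card_mGood_ge hker l F' hF'
  obtain ⟨χ, hχ, hd⟩ := exists_dvd_over_d hker hpm l hw ha hb hz (by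
    rw [card_centralizer_lift π hπ hker hco]
    calc Nat.card (centralizer ({π w} : Set S)) * Nat.card π.ker < orderOf (l z) ^ 2 * F.card * Nat.card π.ker :=
          Nat.mul_lt_mul_of_pos_right hlt Nat.card_pos
      _ ≤ orderOf (l z) ^ 2 * Nat.card {χ : IrrCharacter E // Lies π.ker l (χ : E → ℂ)} * Nat.card π.ker :=
          Nat.mul_le_mul_right _ (Nat.mul_le_mul_left _ (hF'c ▸ h1))
      _ = _ := by ring)
  refine ⟨χ, χ.2, fun z => ?_, hd⟩
  have h2 := hχ 1 z
  rwa [one_mul] at h2

end quot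

end Cfsg.Agent.H620.RIM
end

-- part: H382/RIM/Frame
section
set_option linter.all false
open scoped Cfsg.Agent.FastGrp

/-!
# Rows of S4816 from a model of the double cover (helper382)

`nball_of_two` : `K` simple with multiplier of order 2, `σ : Γ → K` a perfect central extension with kernel `{1, z}`;
if some irreducible character `χ` of `Γ` with `χ z = -χ 1` has degree divisible by `p`, then `NBall p S` for `S ≃* K`.
-/

set_option autoImplicit false

namespace Cfsg.Agent.H382.RIM

open Cfsg Cfsg.Agent.H51.Mult Cfsg.Agent.H665.RIM Cfsg.Agent.Characters.Core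

universe u v w x

theorem center_eq_bot {K : Type v} [Group K] [IsSimpleGroup K] (h : commutator K = ⊤) :
    Subgroup.center K = ⊥ := by
  rcases IsSimpleGroup.eq_bot_or_eq_top_of_normal (Subgroup.center K) inferInstance with h1 | h1
  · exact h1
  · exfalso
    have h2 : commutator K = ⊥ := by
      rw [commutator_eq_bot_iff_center_eq_top]; exact h1
    rw [h] at h2
    exact top_ne_bot h2

theorem PCE.perfect {Γ : Type w} {K : Type v} [Group Γ] [Group K] {σ : Γ →* K} (hσ : PCE σ) : commutator K = ⊤ := by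
  have h1 : (commutator Γ).map σ = commutator K := by
    rw [commutator_def, commutator_def, Subgroup.map_commutator, Subgroup.map_top_of_surjective σ hσ.surj]
  rw [← h1, hσ.perf, Subgroup.map_top_of_surjective σ hσ.surj]

theorem nball_of_two {p : ℕ} {S : Type u} [Group S] {K : Type v} [Group K] (e : S ≃* K)
    {A : Type x} [CommGroup A] (hA : Cfsg.HasSchurMultiplier K A) (hcA : Nat.card A = 2)
    [IsSimpleGroup K] {Γ : Type w} [Group Γ] [Finite Γ] {σ : Γ →* K} (hσ : PCE σ)
    {z : Γ} (hz1 : z ≠ 1) (hker : ∀ g : Γ, σ g = 1 ↔ g = 1 ∨ g = z)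
    {χ : Γ → ℂ} (hχ : IsIrrCharacter Γ χ) (hl : χ z = - χ 1) (hd : p ∣ charDegree χ) : NBall p S := by
  have hK : Subgroup.center K = ⊥ := center_eq_bot (PCE.perfect hσ)
  have hcard : Nat.card σ.ker = 2 := by
    have h1 : (σ.ker : Set Γ) = {1, z} := by
      ext g
      rw [SetLike.mem_coe, MonoidHom.mem_ker, Set.mem_insert_iff, Set.mem_singleton_iff]
      exact hker g
    have h2 : Nat.card σ.ker = (σ.ker : Set Γ).ncard := rfl
    rw [h2, h1, Set.ncard_pair hz1.symm]
  intro m hm2 _ E _ _ π hs hc hperf hm l hl1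
  have hπ : PCE (e.toMonoidHom.comp π) := by
    refine ⟨e.surjective.comp hs, ?_, hperf⟩
    intro g hg
    apply hc
    rw [MonoidHom.mem_ker] at hg ⊢
    exact e.injective (by rw [map_one]; exact hg)
  have hkerπ : (e.toMonoidHom.comp π).ker = π.ker := by
    ext g
    rw [MonoidHom.mem_ker, MonoidHom.mem_ker]
    constructor
    · intro hg
      exact e.injective (by rw [map_one]; exact hg)
    · intro hg
      change e (π g) = 1
      rw [hg, map_one]
  have hd2 : Nat.card π.ker ∣ 2 := by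
    rw [← hcA, ← hkerπ]
    exact Cfsg.Agent.H990.TC.card_ker_dvd hA hπ
  have hm' : Nat.card π.ker = 2 := by
    have h1 := Nat.le_of_dvd (by norm_num) hd2
    omega
  obtain ⟨θ, hθ⟩ := Cfsg.Agent.H990.TC.exists_surj_of_card hA hσ (hcard.trans hcA.symm) hπ
  -- `θ` is bijective
  have hcE : Nat.card E = Nat.card Γ := by
    have hfinK : Finite K := Finite.of_surjective σ hσ.surj
    have h1 : Nat.card σ.ker * Nat.card K = Nat.card Γ := by
      rw [← Subgroup.card_mul_index σ.ker, Subgroup.index_ker, MonoidHom.range_eq_top.2 hσ.surj,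
        Nat.card_congr Subgroup.topEquiv.toEquiv]
    have h2 : Nat.card (e.toMonoidHom.comp π).ker * Nat.card K = Nat.card E := by
      rw [← Subgroup.card_mul_index (e.toMonoidHom.comp π).ker, Subgroup.index_ker, MonoidHom.range_eq_top.2 hπ.surj,
        Nat.card_congr Subgroup.topEquiv.toEquiv]
    rw [hkerπ, hm'] at h2
    rw [hcard] at h1
    rw [← h1, ← h2]
  have hbij : Function.Bijective θ :=
    (Nat.bijective_iff_surjective_and_card θ).2 ⟨hθ, hcE.symm⟩
  let f : Γ ≃* E := MulEquiv.ofBijective θ hbij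
  refine ⟨χ ∘ f.symm.toMonoidHom, isIrr_comp f.symm.toMonoidHom f.symm.surjective hχ, ?_, ?_⟩
  · intro y
    change χ (f.symm y) = χ (f.symm 1) * _
    rw [map_one]
    by_cases hy : y = 1
    · subst hy
      rw [OneMemClass.coe_one, map_one, map_one, Units.val_one, mul_one]
    · have h1 : f.symm (y : E) = z := by
        have h2 : f.symm (y : E) ∈ Subgroup.center Γ := by
          rw [Subgroup.mem_center_iff]
          intro g
          have h3 := Subgroup.mem_center_iff.1 (hc y.2) (f g)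
          apply f.injective
          rw [map_mul, map_mul, MulEquiv.apply_symm_apply]
          exact h3
        have h4 : σ (f.symm (y : E)) = 1 := by
          have h5 : σ (f.symm (y : E)) ∈ Subgroup.center K := by
            rw [Subgroup.mem_center_iff]
            intro k
            obtain ⟨g, rfl⟩ := hσ.surj k
            rw [← map_mul, ← map_mul, Subgroup.mem_center_iff.1 h2 g]
          rw [hK] at h5
          exact Subgroup.mem_bot.1 h5
        rcases (hker _).1 h4 with h5 | h5
        · exfalso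
          apply hy
          apply Subtype.ext
          apply f.symm.injective
          rw [h5, OneMemClass.coe_one, map_one]
        · exact h5
      have h6 : (l y : ℂ) = -1 := by
        have h7 : y ^ 2 = 1 := by
          rw [← hm']
          exact pow_card_eq_one'
        have h8 : (l y : ℂ) ^ 2 = 1 := by
          rw [← Units.val_pow_eq_pow_val, ← map_pow, h7, map_one, Units.val_one]
        have h8' : (l y : ℂ) * (l y : ℂ) = 1 := by rw [← sq]; exact h8
        rcases mul_self_eq_one_iff.1 h8' with h9 | h9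
        · exfalso
          apply hy
          apply hl1
          rw [map_one]
          exact Units.ext h9
        · exact h9
      rw [h1, h6, hl]
      ring
  · have h1 : charDegree (χ ∘ f.symm.toMonoidHom) = charDegree χ := by
      unfold charDegree
      change ⌊(χ (f.symm 1)).re⌋₊ = _
      rw [map_one]
    rw [h1]
    exact hd

end Cfsg.Agent.H382.RIM
end
end
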